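import Cfsg.Agent.Lib.KnownB.ThompsonG2.Levi

/-!
Covering `G₂` by two conjugates of an element of the long root `GL₂`.
-/

set_option autoImplicit false

namespace CfsgLib.ThompsonG2

open Cfsg.Lie Matrix CfsgLib.Chev CfsgLib.Chev.G2 CfsgLib.Thompson
open scoped MatrixGroups

variable {F : Type*} [Field F]

local notation "gd" => stdG2.good
local notation "Upos" => UP _ stdG2.good (posBut chevG2 1)

/-- the conjugates of `M₀` and of its inverse -/
def Cls (M0 M : GL (Fin 2) F) : Prop := ∃ C, C * M0 * C⁻¹ = M ∨ C * M0⁻¹ * C⁻¹ = M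

/-- what is asked of the chosen element -/
structure Pick (M0 : GL (Fin 2) F) : Prop where
  fix : ∀ u ∈ UP F gd (posBut chevG2 1), Phi M0 * u = u * Phi M0 → u = 1
  flip : ∃ C, N0 * Phi M0 * N0⁻¹ = Phi (C * M0⁻¹ * C⁻¹)
  disc : trG M0 ^ 2 ≠ 4 * detG M0

theorem norm_pos_iff (M : GL (Fin 2) F) (r : GL chevG2.Idx F) :
    Phi M * r * (Phi M)⁻¹ ∈ UP F gd (posBut chevG2 1) ↔ r ∈ UP F gd (posBut chevG2 1) :=
  (Subgroup.mem_normalizer_iff.1 (Phi_norm_pos M) r).symm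

theorem norm_neg_iff (M : GL (Fin 2) F) (r : GL chevG2.Idx F) :
    Phi M * r * (Phi M)⁻¹ ∈ UP F gd (negBut chevG2 auxG2 1) ↔
      r ∈ UP F gd (negBut chevG2 auxG2 1) :=
  (Subgroup.mem_normalizer_iff.1 (Phi_norm_neg M) r).symm

theorem Pick.fpf_pos [Finite F] {M0 M : GL (Fin 2) F} (h : Pick M0) (hM : Cls M0 M) :
    Fpf (UP F gd (posBut chevG2 1)) (Phi M) := by
  have h1 : Fpf (UP F gd (posBut chevG2 1)) (Phi M0) :=
    ⟨fun r hr => (norm_pos_iff M0 r).2 hr, h.fix⟩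
  obtain ⟨C, rfl | rfl⟩ := hM
  · rw [map_mul, map_mul, map_inv]; exact h1.conj (norm_pos_iff C)
  · rw [map_mul, map_mul, map_inv, map_inv]; exact h1.inv.conj (norm_pos_iff C)

theorem Pick.fpf_neg [Finite F] {M0 M : GL (Fin 2) F} (h : Pick M0) (hM : Cls M0 M) :
    Fpf (UP F gd (negBut chevG2 auxG2 1)) (Phi M) := by
  obtain ⟨C, hC⟩ := h.flip
  have h1 : Fpf (UP F gd (negBut chevG2 auxG2 1)) (Phi M0) := by
    refine ⟨fun r hr => (norm_neg_iff M0 r).2 hr, fun r hr e => ?_⟩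
    have h2 := (h.fpf_pos ⟨C, Or.inr rfl⟩).fix _ (N0_UP hr) (by
      rw [← hC]
      calc N0 * Phi M0 * N0⁻¹ * (N0 * r * N0⁻¹) = N0 * (Phi M0 * r) * N0⁻¹ := by group
        _ = _ := by rw [e]; group)
    exact conj_eq_one_iff.1 h2
  obtain ⟨D, rfl | rfl⟩ := hM
  · rw [map_mul, map_mul, map_inv]; exact h1.conj (norm_neg_iff D)
  · rw [map_mul, map_mul, map_inv, map_inv]; exact h1.inv.conj (norm_neg_iff D)

theorem Pick.conj_group {M0 M : GL (Fin 2) F} (h : Pick M0) (hM : Cls M0 M) :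
    ∃ x ∈ chevG2.group F, x * Phi M0 * x⁻¹ = Phi M := by
  obtain ⟨C, rfl | rfl⟩ := hM
  · exact ⟨Phi C, Phi_mem C, by rw [map_mul, map_mul, map_inv]⟩
  · obtain ⟨E, hE⟩ := h.flip
    refine ⟨Phi C * (Phi E)⁻¹ * N0,
      mul_mem (mul_mem (Phi_mem C) (inv_mem (Phi_mem E))) N0_mem, ?_⟩
    simp only [map_mul, map_inv] at hE ⊢
    calc Phi C * (Phi E)⁻¹ * N0 * Phi M0 * (Phi C * (Phi E)⁻¹ * N0)⁻¹
        = Phi C * (Phi E)⁻¹ * (N0 * Phi M0 * N0⁻¹) * Phi E * (Phi C)⁻¹ := by group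
      _ = _ := by rw [hE]; group

/-- products of two admissible elements -/
def Cov (M0 L : GL (Fin 2) F) : Prop := ∃ P R, Cls M0 P ∧ Cls M0 R ∧ L = P * R

/-- the conclusion for one element -/
def Done (M0 : GL (Fin 2) F) (y : GL chevG2.Idx F) : Prop :=
  ∃ x ∈ chevG2.group F, ∃ z ∈ chevG2.group F, y = (x * Phi M0 * x⁻¹) * (z * Phi M0 * z⁻¹)

theorem done_of_decomp [Finite F] {M0 L : GL (Fin 2) F} (h : Pick M0) (hL : Cov M0 L)
    {y x v w : GL chevG2.Idx F} (hx : x ∈ chevG2.group F)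
    (hv : v ∈ UP F gd (negBut chevG2 auxG2 1)) (hw : w ∈ UP F gd (posBut chevG2 1))
    (e : x * y * x⁻¹ = v * Phi L * w) : Done M0 y := by
  obtain ⟨P, R, hP, hR, rfl⟩ := hL
  rw [map_mul] at e
  exact cover_two (X := chevG2.group F)
    (UP_le fun r t _ => xG_mem_group gd r t)
    (UP_le fun r t _ => xG_mem_group gd r t)
    (h.fpf_neg hP) (h.fpf_pos hR) (h.conj_group hP) (h.conj_group hR) hv hw ⟨x, hx, e⟩

theorem neg_simple1 : auxG2.neg (chevG2.simple 1) = 5 := by decide +kernel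
theorem simple1 : chevG2.simple 1 = 6 := by decide +kernel
theorem neg_simple0 : auxG2.neg (chevG2.simple 0) = 4 := by decide +kernel
theorem simple0 : chevG2.simple 0 = 7 := by decide +kernel

/-- the middle part of a state -/
noncomputable def mid (c : Fin chevG2.rank → Fˣ) (a b : F) : GL (Fin 2) F :=
  up (-a) * dg (c0 c / c1 c) (c1 c / c0 c ^ 2) * dn (-b)

theorem mid_eq (c : Fin chevG2.rank → Fˣ) (a b : F) :
    xG gd 5 a * tor chevG2 auxG2 c * xG gd 6 b = Phi (mid c a b) := by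
  rw [mid, map_mul, map_mul, x5_eq, x6_eq, ← tor_eq_Phi, eta_vec]

theorem done_of_st [Finite F] {M0 : GL (Fin 2) F} (h : Pick M0) {y : GL chevG2.Idx F}
    {c : Fin chevG2.rank → Fˣ} (hs : St F gd y c) (hL : ∀ a b, Cov M0 (mid c a b)) : Done M0 y := by
  obtain ⟨x, hx, v, hv, w, hw, e⟩ := hs
  obtain ⟨v1, hv1, a, rfl⟩ := neg_decomp stdG2 (i := 1) (by decide) hv
  obtain ⟨b, w1, hw1, rfl⟩ := pos_decomp' stdG2 (i := 1) (by decide) hw
  rw [neg_simple1, simple1] at e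
  refine done_of_decomp h (hL a b) hx hv1 hw1 (e.trans ?_)
  rw [← mid_eq]; group

theorem trG_inv (M : GL (Fin 2) F) : trG M⁻¹ = trG M / detG M := by
  have hd := detG_ne_zero M
  have e : M.val 0 0 * M.val 1 1 - M.val 0 1 * M.val 1 0 = detG M := rfl
  have h1 : M⁻¹ = mk2 (M.val 1 1 / detG M) (-M.val 0 1 / detG M) (-M.val 1 0 / detG M)
      (M.val 0 0 / detG M) (by
        rw [show M.val 1 1 / detG M * (M.val 0 0 / detG M) -
          -M.val 0 1 / detG M * (-M.val 1 0 / detG M) = (detG M)⁻¹ by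
            field_simp; linear_combination e]
        exact inv_ne_zero hd) := by
    rw [inv_eq_iff_mul_eq_one]
    apply ext2 <;> simp [Matrix.mul_apply, Fin.sum_univ_two] <;> field_simp <;>
      (first | ring1 | linear_combination e | linear_combination (-1 : F) * e)
  rw [h1, trG, trG]
  simp only [mk2_val]
  simp [add_div, add_comm]

theorem detG_inv (M : GL (Fin 2) F) : detG M⁻¹ = (detG M)⁻¹ := by
  refine eq_inv_of_mul_eq_one_left ?_
  rw [← detG_mul, inv_mul_cancel]; simp [detG]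

/-- trace and determinant of an admissible element -/
def Pair (M0 : GL (Fin 2) F) (t d : F) : Prop :=
  (t = trG M0 ∧ d = detG M0) ∨ (t = trG M0 / detG M0 ∧ d = (detG M0)⁻¹)

theorem Pick.cls {M0 P : GL (Fin 2) F} (h : Pick M0) (hP : Pair M0 (trG P) (detG P)) : Cls M0 P := by
  have hd := detG_ne_zero M0
  have h0 := nonScal_of_disc h.disc
  rcases hP with ⟨h1, h2⟩ | ⟨h1, h2⟩
  · obtain ⟨C, hC⟩ := conj_of_trdet h0 (nonScal_of_disc (L := P) (by rw [h1, h2]; exact h.disc))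
      h1.symm h2.symm
    exact ⟨C, Or.inl hC⟩
  · have hi : (trG M0 / detG M0) ^ 2 ≠ 4 * (detG M0)⁻¹ := by
      intro e; apply h.disc; field_simp at e; linear_combination e
    obtain ⟨C, hC⟩ := conj_of_trdet (L := M0⁻¹) (M := P)
      (nonScal_of_disc (by rw [trG_inv, detG_inv]; exact hi))
      (nonScal_of_disc (by rw [h1, h2]; exact hi))
      (by rw [trG_inv, h1]) (by rw [detG_inv, h2])
    exact ⟨C, Or.inr hC⟩

theorem Pick.cov {M0 L : GL (Fin 2) F} (h : Pick M0) {t₁ d₁ t₂ d₂ : F} (h1 : Pair M0 t₁ d₁)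
    (h2 : Pair M0 t₂ d₂) (hp : Prod2 t₁ d₁ t₂ d₂ L) : Cov M0 L := by
  obtain ⟨P, R, e, ⟨a, b⟩, ⟨a', b'⟩⟩ := hp
  exact ⟨P, R, h.cls (by rw [a, b]; exact h1), h.cls (by rw [a', b']; exact h2), e⟩

/-- the target state -/
def cTar (d : Fˣ) : Fin chevG2.rank → Fˣ := vec2 (d ^ 2)⁻¹ (d ^ 3)⁻¹

theorem mid_target (d : Fˣ) (a b : F) :
    (mid (cTar d) a b).val = !![(d : F) * (1 + a * b), -(d : F) * a; -(d : F) * b, (d : F)] := by
  have h := d.ne_zero
  ext i j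
  fin_cases i <;> fin_cases j <;>
    simp [mid, cTar, up, dn, dg, vec2, c0, c1, Matrix.mul_apply, Fin.sum_univ_two] <;>
    field_simp <;> simp

/-- every non scalar element of determinant `d ^ 2` is covered -/
theorem cov_target {M0 : GL (Fin 2) F} (h : Pick M0) {d : Fˣ} (hd : (d : F) = detG M0)
    (hns : ∀ L : GL (Fin 2) F, NonScal L → detG L = (d : F) ^ 2 → Cov M0 L) (a b : F) :
    Cov M0 (mid (cTar d) a b) := by
  have hm := mid_target d a b
  have hd0 := d.ne_zero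
  by_cases hab : a = 0 ∧ b = 0
  · obtain ⟨rfl, rfl⟩ := hab
    refine h.cov (Or.inl ⟨rfl, rfl⟩) ?_ (prod2_scalar (d : F) ?_ ?_ ?_ ?_ M0)
    · left
      have := detG_ne_zero M0
      rw [hd]
      exact ⟨by field_simp, by field_simp⟩
    all_goals simp [hm]
  · refine hns _ (fun ⟨h1, h2, _⟩ => hab ⟨?_, ?_⟩) ?_
    · simpa [hm, hd0] using h1
    · simpa [hm, hd0] using h2
    · simp [detG, hm]; ring

theorem chi6 (c : Fin chevG2.rank → Fˣ) :
    chi chevG2 auxG2 c (chevG2.simple ((1 : Fin 2) : ℕ)) = c1 c ^ 2 / c0 c ^ 3 := by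
  rw [show chevG2.simple ((1 : Fin 2) : ℕ) = ((6 : Fin 12) : ℕ) from simple1, chi_table]
  simp [cartInt, c0, c1, div_eq_mul_inv, mul_comm, _root_.zpow_neg]

theorem chi7 (c : Fin chevG2.rank → Fˣ) :
    chi chevG2 auxG2 c (chevG2.simple ((0 : Fin 2) : ℕ)) = c0 c ^ 2 / c1 c := by
  rw [show chevG2.simple ((0 : Fin 2) : ℕ) = ((7 : Fin 12) : ℕ) from simple0, chi_table]
  simp [cartInt, c0, c1, div_eq_mul_inv]

theorem st_move0 {y : GL chevG2.Idx F} {a b : Fˣ} (hs : St F gd y (vec2 a b)) (h : a ^ 2 ≠ b) (z : Fˣ) :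
    St F gd y (vec2 z b) := by
  convert St.move stdG2 hs (0 : Fin 2) ?_ z using 1
  · funext i; change Fin 2 at i; fin_cases i <;> rfl
  · rw [chi7]; simpa [c0, c1, vec2, div_eq_one] using h

theorem st_move1 {y : GL chevG2.Idx F} {a b : Fˣ} (hs : St F gd y (vec2 a b)) (h : b ^ 2 ≠ a ^ 3) (z : Fˣ) :
    St F gd y (vec2 a z) := by
  convert St.move stdG2 hs (1 : Fin 2) ?_ z using 1
  · funext i; change Fin 2 at i; fin_cases i <;> rfl
  · rw [chi6]; simpa [c0, c1, vec2, div_eq_one] using h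

theorem single0 (c : Fin 2 → Fˣ) (z : Fˣ) :
    Pi.mulSingle 0 (z * (c 0)⁻¹) * c = ![z, c 1] := by
  funext j; fin_cases j <;> simp

theorem single1 (c : Fin 2 → Fˣ) (z : Fˣ) :
    Pi.mulSingle 1 (z * (c 1)⁻¹) * c = ![c 0, z] := by
  funext j; fin_cases j <;> simp

/-- every non identity element reaches the target state -/
theorem exists_target {d : Fˣ} (h2 : ∃ u : Fˣ, u ≠ 1)
    (hz : ∀ b : Fˣ, ∃ z : Fˣ, b ^ 2 ≠ z ^ 3 ∧ z ^ 2 ≠ (d ^ 3)⁻¹)
    {y : GL chevG2.Idx F} (hy : y ∈ chevG2.group F) (hy1 : y ≠ 1) : St F gd y (cTar d) := by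
  have key : ∀ b : Fˣ, (∀ z, St F gd y (vec2 z b)) → St F gd y (cTar d) := by
    intro b hb
    by_cases e : b = (d ^ 3)⁻¹
    · rw [cTar, ← e]; exact hb _
    · obtain ⟨z, h1, h2⟩ := hz b
      exact st_move0 (st_move1 (hb z) h1 _) h2 _
  obtain ⟨i, c, hc⟩ := exists_start stdG2 hy hy1
  change Fin 2 at i
  fin_cases i
  · refine key (c1 c) fun z => ?_
    convert hc (z * (c0 c)⁻¹) using 1
    exact (single0 c z).symm
  · have hb : ∀ z, St F gd y (vec2 (c0 c) z) := fun z => by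
      convert hc (z * (c1 c)⁻¹) using 1
      exact (single1 c z).symm
    by_cases e : c0 c ^ 2 = (d ^ 3)⁻¹
    · obtain ⟨u, hu⟩ := h2
      refine key ((d ^ 3)⁻¹ * u) fun z => st_move0 (hb _) ?_ z
      rw [e]; simpa [eq_comm] using hu
    · exact st_move0 (hb _) e _

end CfsgLib.ThompsonG2
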