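import Cfsg.Agent.Lib.KnownB.ThompsonG2.Cover
import Cfsg.Agent.Lib.Chev.OrdList

/-!
The chosen elements: split ones for large fields, elliptic ones for `q ≤ 5`.
-/

set_option autoImplicit false
set_option maxRecDepth 100000

namespace CfsgLib.ThompsonG2

open Cfsg.Lie Matrix CfsgLib.Chev CfsgLib.Chev.G2 CfsgLib.Thompson
open scoped MatrixGroups

variable {F : Type*} [Field F]

local notation "gd" => stdG2.good

/-- the roots of the positive radical -/
def posL : List ℕ := [7, 8, 9, 10, 11]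

theorem posL_tab : ∀ r < chevG2.nroots,
    (r ∈ posL ↔ chevG2.IsPosRoot r ∧ r ≠ chevG2.simple 1) := by decide +kernel

theorem upList_posL : UpList chevG2 posL := by
  refine ⟨by decide, fun r hr => ((posL_tab r ?_).1 hr).1, fun r hr q hq hrq => ?_⟩
  · simp [posL] at hr; rcases hr with rfl | rfl | rfl | rfl | rfl <;> decide
  · have hq' := hq.1
    change q < 12 at hq'
    simp [posL] at hr ⊢
    omega

theorem UP_le_posL : UP F gd (posBut chevG2 1) ≤ UL F gd posL :=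
  UP_le fun r t hr => xG_mem_UL gd ((posL_tab r hr.1.1).2 hr) t

/-- what commutes with a torus element lives on the roots where it is `1` -/
theorem fixed_pw {c : Fin chevG2.rank → Fˣ} {u : GL chevG2.Idx F}
    (hu : u ∈ UP F gd (posBut chevG2 1)) (h : tor chevG2 auxG2 c * u = u * tor chevG2 auxG2 c) :
    ∃ T, u = pw gd posL T ∧ ∀ r ∈ posL, chi chevG2 auxG2 c r ≠ 1 → T r = 0 := by
  obtain ⟨T, rfl⟩ := exists_pw stdG2 upList_posL (UP_le_posL hu)
  have hn : ∀ r ∈ posL, r < chevG2.nroots := fun r hr => (upList_posL.pos r hr).1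
  have h' : tor chevG2 auxG2 c * pw gd posL T * (tor chevG2 auxG2 c)⁻¹ = pw gd posL T := by
    rw [h, mul_inv_cancel_right]
  rw [tor_conj_pw gd c T hn] at h'
  refine ⟨T, rfl, fun r hr hc => ?_⟩
  by_contra h0
  exact hc (Units.ext (mul_right_cancel₀ h0
    ((pw_inj stdG2 upList_posL h' r hr).trans (one_mul _).symm)))

theorem pow_commute {M0 : GL (Fin 2) F} {u : GL chevG2.Idx F} (h : Phi M0 * u = u * Phi M0) (n : ℕ) :
    Phi (M0 ^ n) * u = u * Phi (M0 ^ n) := by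
  rw [map_pow]
  exact (Commute.pow_left (show Commute (Phi M0) u from h) n).eq

/-! ### split elements -/

theorem chi_split (g : Fˣ) (r : Fin 12) :
    chi chevG2 auxG2 (vec2 (g * g ^ 2)⁻¹ (g * g ^ 2 * g)⁻¹) r =
      g ^ (-3 * cartInt 0 r - 4 * cartInt 1 r) := by
  rw [chi_table]
  show ((g * g ^ 2)⁻¹ : Fˣ) ^ cartInt 0 r * ((g * g ^ 2 * g)⁻¹ : Fˣ) ^ cartInt 1 r = _
  rw [show (g * g ^ 2)⁻¹ = g ^ (-3 : ℤ) by rw [_root_.zpow_neg]; congr 1; norm_num [pow_succ, mul_assoc, zpow_ofNat],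
    show (g * g ^ 2 * g)⁻¹ = g ^ (-4 : ℤ) by rw [_root_.zpow_neg]; congr 1; norm_num [pow_succ, mul_assoc, zpow_ofNat],
    ← _root_.zpow_mul, ← _root_.zpow_mul, ← _root_.zpow_add]
  congr 1
  ring

theorem split_exp : ∀ r : Fin 12, r.val ∈ posL →
    (-3 * cartInt 0 r - 4 * cartInt 1 r).natAbs ∈ Finset.Icc 1 5 := by decide +kernel

theorem pick_split {g : Fˣ} (ho : 6 ≤ orderOf g) : Pick (dg g (g ^ 2)) := by
  have hne : ∀ n : ℤ, n.natAbs ∈ Finset.Icc 1 5 → g ^ n ≠ 1 := by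
    intro n hn e
    rw [← orderOf_dvd_iff_zpow_eq_one, Int.natCast_dvd] at e
    rw [Finset.mem_Icc] at hn
    have := Nat.le_of_dvd (by omega) e
    omega
  refine ⟨fun u hu h => ?_, ⟨1, ?_⟩, ?_⟩
  · rw [Phi_dg] at h
    obtain ⟨T, rfl, hT⟩ := fixed_pw hu h
    refine List.prod_eq_one fun y hy => ?_
    obtain ⟨r, hr, rfl⟩ := List.mem_map.1 hy
    have hr12 : r < 12 := (upList_posL.pos r hr).1
    rw [hT r hr (by rw [chi_split g ⟨r, hr12⟩]; exact hne _ (split_exp ⟨r, hr12⟩ hr)), xG_zero]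
  · rw [N0_Phi_dg, one_mul, inv_one, mul_one, map_inv, eq_inv_iff_mul_eq_one, ← map_mul]
    rw [show dg g⁻¹ (g ^ 2)⁻¹ * dg g (g ^ 2) = 1 by
      apply ext2 <;> simp [dg, Matrix.mul_apply, Fin.sum_univ_two], map_one]
  · intro e
    have h1 : ((g : F) - (g : F) ^ 2) ^ 2 = 0 := by
      simp [trG, detG, dg] at e
      linear_combination e
    have h2 : g ^ (1 : ℤ) = 1 := by
      have h3 := sub_eq_zero.1 (pow_eq_zero_iff (two_ne_zero) |>.1 h1)
      rw [zpow_one]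
      ext
      exact mul_left_cancel₀ g.ne_zero (by rw [Units.val_one]; linear_combination -h3)
    exact hne 1 (by decide) h2

/-! ### elliptic elements -/

/-- companion of `X ^ 2 - X + d` -/
noncomputable def ell (d : Fˣ) : GL (Fin 2) F := mk2 1 (-(d : F)) 1 0 (by simp)

@[simp] theorem trG_ell (d : Fˣ) : trG (ell d) = 1 := by simp [trG, ell]
@[simp] theorem detG_ell (d : Fˣ) : detG (ell d) = (d : F) := by simp [detG, ell]

theorem ell_decomp (d : Fˣ) : ell d = dn 1 * dg 1 d * up (-(d : F)) := by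
  apply ext2 <;> simp [ell, dn, dg, up, Matrix.mul_apply, Fin.sum_univ_two]

theorem flip_ell (d : Fˣ) (hdisc : (1 : F) ≠ 4 * (d : F)) :
    ∃ C, N0 * Phi (ell d) * N0⁻¹ = Phi (C * (ell d)⁻¹ * C⁻¹) := by
  set s6 : F := (sgnW auxG2 w0 6 : F)
  set s5 : F := (sgnW auxG2 w0 5 : F)
  set M := up s6 * dg 1⁻¹ d⁻¹ * dn (-s5 * (d : F))
  have hM : N0 * Phi (ell d) * N0⁻¹ = Phi M := by
    rw [ell_decomp, map_mul, map_mul,
      show N0 * (Phi (dn (1 : F)) * Phi (dg 1 d) * Phi (up (-(d : F)))) * N0⁻¹ =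
        (N0 * Phi (dn 1) * N0⁻¹) * (N0 * Phi (dg 1 d) * N0⁻¹) * (N0 * Phi (up (-(d : F))) * N0⁻¹) by
        group, N0_Phi_dg, ← x5_eq, show (1 : F) = -(-1) by ring, ← x6_eq, N0_conj6, N0_conj5,
      x5_eq, x6_eq, ← map_mul, ← map_mul]
    congr 2
    · simp [s6]
    · simp [s5]
  have hs : s5 * s6 = 1 := sgn56F
  have hd := d.ne_zero
  have ht : trG M = (d : F)⁻¹ := by
    simp [M, trG, up, dn, dg, Matrix.mul_apply, Fin.sum_univ_two]
    field_simp
    linear_combination (-1 : F) * hs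
  have hdet : detG M = (d : F)⁻¹ := by
    simp [M, detG_mul]; simp [up, dn, dg, detG]
  have hi : ∀ X : GL (Fin 2) F, trG X = (d : F)⁻¹ → detG X = (d : F)⁻¹ → NonScal X := fun X a b =>
    nonScal_of_disc (by
      rw [a, b]; intro e; apply hdisc; field_simp at e; linear_combination e)
  have h1 : trG (ell d)⁻¹ = (d : F)⁻¹ := by simp [trG_inv]
  have h2 : detG (ell d)⁻¹ = (d : F)⁻¹ := by simp [detG_inv]
  obtain ⟨C, hC⟩ := conj_of_trdet (hi _ h1 h2) (hi _ ht hdet) (h1.trans ht.symm) (h2.trans hdet.symm)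
  exact ⟨C, by rw [hM, hC]⟩

theorem dd_eq (d : Fˣ) : tor chevG2 auxG2 (cTar d) = (Phi (dg d d) : GL chevG2.Idx F) := by
  rw [Phi_dg]
  congr 1
  simp [cTar, pow_succ, mul_assoc]

theorem chi_tar (d : Fˣ) (r : Fin 12) :
    chi chevG2 auxG2 (cTar d) r = d ^ (-2 * cartInt 0 r - 3 * cartInt 1 r) := by
  rw [chi_table]
  show ((d ^ 2)⁻¹ : Fˣ) ^ cartInt 0 r * ((d ^ 3)⁻¹ : Fˣ) ^ cartInt 1 r = _
  rw [show (d ^ 2)⁻¹ = d ^ (-2 : ℤ) by simp [zpow_ofNat],
    show (d ^ 3)⁻¹ = d ^ (-3 : ℤ) by simp [zpow_ofNat],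
    ← _root_.zpow_mul, ← _root_.zpow_mul, ← _root_.zpow_add]
  congr 1
  ring

theorem tar_exp : ∀ r : Fin 12, r.val ∈ posL →
    (-2 * cartInt 0 r - 3 * cartInt 1 r).natAbs ∈ Finset.Icc 1 3 ∧
    ((-2 * cartInt 0 r - 3 * cartInt 1 r).natAbs = 2 → r.val = 9) ∧
    ((-2 * cartInt 0 r - 3 * cartInt 1 r).natAbs = 3 → r.val = 10 ∨ r.val = 11) := by decide +kernel

/-- the residual part fixed by the scalar power -/
theorem fixed_scalar {d : Fˣ} {n : ℕ} (hn : (ell d) ^ n = dg d d) {u : GL chevG2.Idx F}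
    (hu : u ∈ UP F gd (posBut chevG2 1)) (h : Phi (ell d) * u = u * Phi (ell d)) :
    ∃ T, u = pw gd posL T ∧ (d ^ 2 ≠ 1 → T 9 = 0) ∧ (d ^ 3 ≠ 1 → T 10 = 0 ∧ T 11 = 0) ∧
      (d ≠ 1 → T 7 = 0 ∧ T 8 = 0) := by
  have h' := pow_commute h n
  rw [hn, ← dd_eq] at h'
  obtain ⟨T, hT, h0⟩ := fixed_pw hu h'
  have key : ∀ (r : Fin 12) (k : ℕ), r.val ∈ posL →
      (-2 * cartInt 0 r - 3 * cartInt 1 r).natAbs = k → d ^ k ≠ 1 → T r = 0 := by
    intro r k hr hk hdk
    refine h0 r hr ?_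
    rw [chi_tar]
    intro e
    apply hdk
    rcases Int.natAbs_eq_iff.1 hk with e' | e' <;> rw [e'] at e
    · simpa using e
    · rw [_root_.zpow_neg, inv_eq_one] at e; simpa using e
  refine ⟨T, hT, fun hd => ?_, fun hd => ⟨?_, ?_⟩, fun hd => ⟨?_, ?_⟩⟩
  · exact key 9 2 (by decide) (by decide +kernel) hd
  · exact key 10 3 (by decide) (by decide +kernel) hd
  · exact key 11 3 (by decide) (by decide +kernel) hd
  · exact key 7 1 (by decide) (by decide +kernel) (by simpa using hd)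
  · exact key 8 1 (by decide) (by decide +kernel) (by simpa using hd)

theorem pw_posL (T : ℕ → F) : pw gd posL T =
    xG gd 7 (T 7) * (xG gd 8 (T 8) * (xG gd 9 (T 9) * (xG gd 10 (T 10) * xG gd 11 (T 11)))) := by
  simp [pw, posL]

theorem x9_comm : ∀ r ∈ ([5, 6] : List ℕ), (r < chevG2.nroots ∧ (9 : ℕ) ≠ r ∧ 9 ≠ auxG2.neg r) ∧
    auxG2.terms r 9 = [] := by decide +kernel

/-- the action on the root `9` -/
theorem Phi_conj_x9 (M : GL (Fin 2) F) :
    ∀ s, Phi M * xG gd 9 s * (Phi M)⁻¹ = xG gd 9 ((detG M)⁻¹ * s) := by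
  have hc : ∀ r ∈ ([5, 6] : List ℕ), ∀ (t s : F),
      xG gd r t * xG gd 9 s * (xG gd r t)⁻¹ = xG gd 9 s := by
    intro r hr t s
    obtain ⟨⟨h1, h2, h3⟩, h4⟩ := x9_comm r hr
    have e := CfsgLib.KnownB.ChevField.comm_word (F := F) stdG2 h1 (show (9 : ℕ) < chevG2.nroots by decide)
      h2 h3 t s
    rw [h4] at e
    simp at e
    rw [← e, mul_inv_cancel_right]
  refine gl2_cases (P := fun M => ∀ s, Phi M * xG gd 9 s * (Phi M)⁻¹ = xG gd 9 ((detG M)⁻¹ * s))
    (fun t s => ?_) (fun t s => ?_) (fun a b s => ?_) (fun M N h1 h2 s => ?_) M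
  · rw [← neg_neg t, ← x5_eq, hc 5 (by simp), show detG (up (- -t)) = 1 by simp [up, detG], inv_one,
      one_mul]
  · rw [← neg_neg t, ← x6_eq, hc 6 (by simp), show detG (dn (- -t)) = 1 by simp [dn, detG], inv_one,
      one_mul]
  · rw [Phi_dg, tor_conj_xG gd _ (by decide), show (9 : ℕ) = ((9 : Fin 12) : ℕ) from rfl, chi_table]
    congr 2
    simp [cartInt, vec2, detG, dg, mul_comm]
  · calc Phi (M * N) * xG gd 9 s * (Phi (M * N))⁻¹
        = Phi M * (Phi N * xG gd 9 s * (Phi N)⁻¹) * (Phi M)⁻¹ := by rw [map_mul]; group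
      _ = _ := by rw [h2, h1, detG_mul, mul_inv, mul_assoc]

theorem phi_inj {A B : SL(3, F)} (h : phi A = phi B) : A = B := by
  have key : ∀ x : chevG2.Idx → F, phiMat A *ᵥ x = phiMat B *ᵥ x := fun x => by
    rw [← phi_val, ← phi_val, h]
  have h9 := key (Pi.single (rt 9) 1)
  have h3 := key (Pi.single (rt 3) 1)
  have h4 := key (Pi.single (rt 4) 1)
  refine Subtype.ext ?_
  ext i j
  have e : ∀ {r : Fin 12} {x : chevG2.Idx → F}, phiMat A *ᵥ x = phiMat B *ᵥ x →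
      (phiMat A *ᵥ x) (rt r) = (phiMat B *ᵥ x) (rt r) := fun hh => by rw [hh]
  fin_cases i <;> fin_cases j
  all_goals first
    | (have := e (r := 9) h9; rw [(phi_short A _).1, (phi_short B _).1] at this; simpa [rt_ne] using this)
    | (have := e (r := 9) h3; rw [(phi_short A _).1, (phi_short B _).1] at this; simpa [rt_ne] using this)
    | (have := e (r := 9) h4; rw [(phi_short A _).1, (phi_short B _).1] at this; simpa [rt_ne] using this)
    | (have := e (r := 3) h9; rw [(phi_short A _).2.1, (phi_short B _).2.1] at this; simpa [rt_ne] using this)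
    | (have := e (r := 3) h3; rw [(phi_short A _).2.1, (phi_short B _).2.1] at this; simpa [rt_ne] using this)
    | (have := e (r := 3) h4; rw [(phi_short A _).2.1, (phi_short B _).2.1] at this; simpa [rt_ne] using this)
    | (have := e (r := 4) h9; rw [(phi_short A _).2.2, (phi_short B _).2.2] at this; simpa [rt_ne] using this)
    | (have := e (r := 4) h3; rw [(phi_short A _).2.2, (phi_short B _).2.2] at this; simpa [rt_ne] using this)
    | (have := e (r := 4) h4; rw [(phi_short A _).2.2, (phi_short B _).2.2] at this; simpa [rt_ne] using this)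

theorem x1011_eq (s t : F) : ∃ A : SL(3, F), A.1 = !![1, -t, -s; 0, 1, 0; 0, 0, 1] ∧
    xG gd 10 s * xG gd 11 t = phi A := by
  refine ⟨CfsgLib.StSL.tv 0 2 (-s) * CfsgLib.StSL.tv 0 1 (-t), ?_, ?_⟩
  · rw [Matrix.SpecialLinearGroup.coe_mul]
    ext i j
    fin_cases i <;> fin_cases j <;>
      simp [CfsgLib.StSL.tv, Matrix.SpecialLinearGroup.transvection_coe, Matrix.single_apply,
        Matrix.mul_apply, Fin.sum_univ_three]
  · have h1 : ∀ x : chevG2.Idx → F, ofTri (act (CfsgLib.StSL.tv 0 2 (-s)) (toTri x)) =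
        chevG2.xMat F (10 : Fin 12) s *ᵥ x := fun x => by rw [phi_tv_10, neg_neg]
    have h2 : ∀ x : chevG2.Idx → F, ofTri (act (CfsgLib.StSL.tv 0 1 (-t)) (toTri x)) =
        chevG2.xMat F (11 : Fin 12) t *ᵥ x := fun x => by rw [phi_tv_11, neg_neg]
    rw [map_mul, phi_eq h1, phi_eq h2]
    rfl

/-- elliptic choice -/
theorem pick_ell {d : Fˣ} {n : ℕ} (hn : (ell d) ^ n = dg d d) (hdisc : (1 : F) ≠ 4 * (d : F))
    (hd1 : d ≠ 1) (h23 : d ^ 2 ≠ 1 ∨ d ^ 3 ≠ 1)
    (hev : d ^ 3 = 1 → (2 : F) = 0) : Pick (ell d) := by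
  refine ⟨fun u hu h => ?_, flip_ell d hdisc, by simpa using hdisc⟩
  obtain ⟨T, rfl, h2, h3, h1⟩ := fixed_scalar hn hu h
  obtain ⟨h7, h8⟩ := h1 hd1
  rw [pw_posL, h7, h8] at h ⊢
  simp only [xG_zero, one_mul] at h ⊢
  by_cases e2 : d ^ 2 = 1
  · obtain ⟨h10, h11⟩ := h3 (h23.resolve_left (not_not_intro e2))
    rw [h10, h11] at h ⊢
    simp only [xG_zero, mul_one] at h ⊢
    have e := Phi_conj_x9 (ell d) (T 9)
    rw [h, mul_inv_cancel_right] at e
    have e' := CfsgLib.KnownB.ChevField.xG_inj stdG2 (show (9 : ℕ) < chevG2.nroots by decide) e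
    rw [detG_ell] at e'
    by_cases h0 : T 9 = 0
    · rw [h0, xG_zero]
    · refine absurd (Units.ext ?_) hd1
      have hd := d.ne_zero
      field_simp at e'
      simpa using e'
  rw [h2 e2] at h ⊢
  simp only [xG_zero, one_mul] at h ⊢
  by_cases e3 : d ^ 3 = 1
  swap
  · obtain ⟨h10, h11⟩ := h3 e3
    rw [h10, h11, xG_zero, xG_zero, one_mul]
  obtain ⟨A, hA, eA⟩ := x1011_eq (F := F) (T 10) (T 11)
  rw [eA, Phi_apply, ← map_mul, ← map_mul] at h
  have h' := congrArg (fun X : SL(3, F) => (X : Matrix (Fin 3) (Fin 3) F)) (phi_inj h)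
  simp only [Matrix.SpecialLinearGroup.coe_mul] at h'
  rw [hA] at h'
  have k1 := congrFun (congrFun h' 0) 1
  have k2 := congrFun (congrFun h' 0) 2
  simp [blkSL, ell, detG, Matrix.mul_apply, Matrix.vecMul, dotProduct, Fin.sum_univ_three] at k1 k2
  have hd := d.ne_zero
  field_simp at k1 k2
  have hd3 : (d : F) ^ 3 = 1 := by rw [← Units.val_pow_eq_pow_val, e3, Units.val_one]
  have two := hev e3
  have h10 : T 10 = 0 := by
    have : (d : F) * T 10 = 0 := by grind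
    simpa [hd] using this
  have h11 : T 11 = 0 := by grind
  rw [h10, h11, xG_zero, xG_zero, one_mul]

end CfsgLib.ThompsonG2
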