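import Cfsg.Agent.Lib.KnownB.ThompsonG2.Fix

/-!
The field of four elements.
-/

set_option autoImplicit false
set_option maxRecDepth 100000

namespace CfsgLib.ThompsonG2

open Cfsg.Lie Matrix CfsgLib.Chev CfsgLib.Chev.G2 CfsgLib.Thompson
open scoped MatrixGroups

variable {F : Type*} [Field F]

local notation "gd" => stdG2.good

section Coord

/-- entries one step apart are additive -/
theorem tri_entry_add {w : chevG2.Idx → ℤ} {M N : Matrix chevG2.Idx chevG2.Idx F} {x y : chevG2.Idx}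
    (hxy : w x = w y + 1) (hM : Tri w 0 M) (hN : Tri w 0 N) : (M * N) x y = M x y + N x y := by
  have hne : x ≠ y := fun e => by subst e; omega
  rw [Matrix.mul_apply, Fintype.sum_eq_add x y hne]
  · rw [hM x x (by omega), hN y y (by omega), if_pos rfl, if_pos rfl, one_mul, mul_one, add_comm]
  · rintro z ⟨hzx, hzy⟩
    by_cases hz : w z ≤ w y
    · rw [hN z y (by omega), if_neg hzy, mul_zero]
    · rw [hM x z (by omega), if_neg (Ne.symm hzx), zero_mul]

/-- the coordinate at the negative long simple root -/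
noncomputable def nf (v : GL chevG2.Idx F) : F := v.val (rt 5) (ht 0)

/-- the coordinate at the long simple root -/
noncomputable def pg (v : GL chevG2.Idx F) : F := v.val (rt 6) (ht 0)

theorem code_simple : code chevG2 auxG2 5 = -1 ∧ code chevG2 auxG2 6 = 1 := by decide +kernel

theorem nf_mul {u v : GL chevG2.Idx F} (hu : u ∈ chevG2.negUnipotent F)
    (hv : v ∈ chevG2.negUnipotent F) : nf (u * v) = nf u + nf v := by
  rw [nf, Units.val_mul]
  refine tri_entry_add (w := fun x => -1 * wgt chevG2 auxG2 x) ?_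
    (negUnipotent_le_triG stdG2 hu).1 (negUnipotent_le_triG stdG2 hv).1
  show -1 * code chevG2 auxG2 5 = -1 * 0 + 1
  rw [code_simple.1]; rfl

theorem pg_mul {u v : GL chevG2.Idx F} (hu : u ∈ chevG2.posUnipotent F)
    (hv : v ∈ chevG2.posUnipotent F) : pg (u * v) = pg u + pg v := by
  rw [pg, Units.val_mul]
  refine tri_entry_add (w := fun x => 1 * wgt chevG2 auxG2 x) ?_
    (posUnipotent_le_triG stdG2 hu).1 (posUnipotent_le_triG stdG2 hv).1
  show 1 * code chevG2 auxG2 6 = 1 * 0 + 1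
  rw [code_simple.2]; rfl

theorem nf_one : nf (1 : GL chevG2.Idx F) = 0 := by simp [nf, Matrix.one_apply]

theorem pg_one : pg (1 : GL chevG2.Idx F) = 0 := by simp [pg, Matrix.one_apply]

theorem nf_inv {u : GL chevG2.Idx F} (hu : u ∈ chevG2.negUnipotent F) : nf u⁻¹ = -nf u := by
  have h := nf_mul hu (inv_mem hu)
  rw [mul_inv_cancel, nf_one] at h
  linear_combination -h

theorem pg_inv {u : GL chevG2.Idx F} (hu : u ∈ chevG2.posUnipotent F) : pg u⁻¹ = -pg u := by
  have h := pg_mul hu (inv_mem hu)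
  rw [mul_inv_cancel, pg_one] at h
  linear_combination -h

theorem nf_xG (r : Fin 12) (t : F) : nf (xG gd (r : ℕ) t) = if r = 5 then -(3 * t) else 0 := by
  rw [nf, xG_val, ChevalleyDatum.x, dif_pos (show (r : ℕ) < chevG2.nroots from r.isLt)]
  rw [show chevG2.xMat F ⟨(r : ℕ), _⟩ t = chevG2.xMat F r t from rfl, xMat_eq_xN', map_ht, map_rt]
  fin_cases r <;> simp [xN, chevG2CartanSR]

theorem pg_xG (r : Fin 12) (t : F) : pg (xG gd (r : ℕ) t) = if r = 6 then 3 * t else 0 := by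
  rw [pg, xG_val, ChevalleyDatum.x, dif_pos (show (r : ℕ) < chevG2.nroots from r.isLt)]
  rw [show chevG2.xMat F ⟨(r : ℕ), _⟩ t = chevG2.xMat F r t from rfl, xMat_eq_xN', map_ht, map_rt]
  fin_cases r <;> simp [xN, chevG2CartanSR]

theorem nf_of_negBut {u : GL chevG2.Idx F} (hu : u ∈ UP F gd (negBut chevG2 auxG2 1)) : nf u = 0 := by
  refine (Subgroup.closure_induction (p := fun x _ => x ∈ chevG2.negUnipotent F ∧ nf x = 0)
    ?_ ⟨one_mem _, nf_one⟩ ?_ ?_ hu).2
  · rintro _ ⟨r, t, hr, rfl⟩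
    refine ⟨xG_mem_negUnipotent gd (negBut_isNeg gd hr) t, ?_⟩
    have h := nf_xG (F := F) ⟨r, hr.1⟩ t
    rw [if_neg] at h
    · exact h
    · intro e
      have hr5 : r = 5 := congrArg Fin.val e
      subst hr5
      exact hr.2.2 (by decide +kernel)
  · rintro a b _ _ ⟨ha, ha'⟩ ⟨hb, hb'⟩
    exact ⟨mul_mem ha hb, by rw [nf_mul ha hb, ha', hb', add_zero]⟩
  · rintro a _ ⟨ha, ha'⟩
    exact ⟨inv_mem ha, by rw [nf_inv ha, ha', neg_zero]⟩

theorem pg_of_posBut {u : GL chevG2.Idx F} (hu : u ∈ UP F gd (posBut chevG2 1)) : pg u = 0 := by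
  refine (Subgroup.closure_induction (p := fun x _ => x ∈ chevG2.posUnipotent F ∧ pg x = 0)
    ?_ ⟨one_mem _, pg_one⟩ ?_ ?_ hu).2
  · rintro _ ⟨r, t, hr, rfl⟩
    refine ⟨xG_mem_posUnipotent gd hr.1 t, ?_⟩
    have h := pg_xG (F := F) ⟨r, hr.1.1⟩ t
    rw [if_neg] at h
    · exact h
    · intro e
      exact hr.2 ((congrArg Fin.val e).trans simple1.symm)
  · rintro a b _ _ ⟨ha, ha'⟩ ⟨hb, hb'⟩
    exact ⟨mul_mem ha hb, by rw [pg_mul ha hb, ha', hb', add_zero]⟩
  · rintro a _ ⟨ha, ha'⟩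
    exact ⟨inv_mem ha, by rw [pg_inv ha, ha', neg_zero]⟩

end Coord

section Char2

variable [CharP F 2]

theorem three_eq : (3 : F) = 1 := by
  rw [show (3 : F) = 2 + 1 by norm_num, CharTwo.two_eq_zero, zero_add]

theorem nf_x5 (t : F) : nf (xG gd 5 t) = t := by
  have h := nf_xG (F := F) 5 t
  simpa [three_eq, CharTwo.neg_eq] using h

theorem pg_x6 (t : F) : pg (xG gd 6 t) = t := by
  have h := pg_xG (F := F) 6 t
  simpa [three_eq] using h

/-- the conjugating element -/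
noncomputable def kk (q r : F) : GL chevG2.Idx F := xG gd 4 r * xG gd 7 q

theorem kk_mem_rankOne (q r : F) : kk q r ∈ rankOne F chevG2 0 := by
  refine mul_mem ?_ ?_
  · rw [show (4 : ℕ) = auxG2.neg (chevG2.simple 0) from neg_simple0.symm]
    exact rankOne_neg gd (by decide) r
  · rw [show (7 : ℕ) = chevG2.simple 0 from simple0.symm]
    exact rankOne_pos gd 0 q

theorem kk_neg (q r : F) {v : GL chevG2.Idx F} (hv : v ∈ UP F gd (negBut chevG2 auxG2 0)) :
    kk q r * v * (kk q r)⁻¹ ∈ UP F gd (negBut chevG2 auxG2 0) :=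
  (Subgroup.mem_normalizer_iff.1 (rankOne_le_normalizer_neg stdG2 (by decide) (kk_mem_rankOne q r)) v).1 hv

theorem kk_pos (q r : F) {v : GL chevG2.Idx F} (hv : v ∈ UP F gd (posBut chevG2 0)) :
    kk q r * v * (kk q r)⁻¹ ∈ UP F gd (posBut chevG2 0) :=
  (Subgroup.mem_normalizer_iff.1 (rankOne_le_normalizer stdG2 (by decide) (kk_mem_rankOne q r)) v).1 hv

theorem conj_rule {r s : ℕ} (L : List (ℕ × ℤ × ℕ × ℕ)) (hL : auxG2.terms r s = L)
    (hr : r < chevG2.nroots) (hs : s < chevG2.nroots) (hne : s ≠ r) (hn : s ≠ auxG2.neg r) (q t : F) :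
    xG gd r q * xG gd s t * (xG gd r q)⁻¹ =
      xG gd s t * (L.map fun c => xG gd c.1 ((c.2.1 : F) * q ^ c.2.2.1 * t ^ c.2.2.2)).prod := by
  rw [xG_inv, mul_assoc, CfsgLib.KnownB.ChevField.comm_word stdG2 hr hs hne hn (-q) t, hL, ← mul_assoc,
    ← mul_assoc, xG_add, add_neg_cancel, xG_zero, one_mul, neg_neg]

theorem negBut0_tab : ∀ r < chevG2.nroots,
    (chevG2.IsPosRoot (auxG2.neg r) ∧ auxG2.neg r ≠ chevG2.simple 0 ↔ r ∈ ([0, 1, 2, 3, 5] : List ℕ)) ∧
    (chevG2.IsPosRoot r ∧ r ≠ chevG2.simple 0 ↔ r ∈ ([6, 8, 9, 10, 11] : List ℕ)) := by decide +kernel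

theorem terms_nf7 :
    auxG2.terms 7 5 = [] ∧ auxG2.terms 7 3 = [(5, 3, 1, 1)] ∧
    auxG2.terms 7 2 = [(3, 2, 1, 1), (5, 3, 2, 1), (0, -3, 1, 2)] ∧
    auxG2.terms 7 1 = [(2, -1, 1, 1), (3, -1, 2, 1), (5, -1, 3, 1), (0, -1, 3, 2)] ∧
    auxG2.terms 7 0 = [] :=
  ⟨by decide +kernel, by decide +kernel, by decide +kernel, by decide +kernel, by decide +kernel⟩

theorem terms_nf4 :
    auxG2.terms 4 5 = [(3, 1, 1, 1), (2, 1, 2, 1), (1, -1, 3, 1), (0, 1, 3, 2)] ∧
    auxG2.terms 4 3 = [(2, 2, 1, 1), (1, -3, 2, 1), (0, 3, 1, 2)] ∧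
    auxG2.terms 4 2 = [(1, -3, 1, 1)] ∧ auxG2.terms 4 1 = [] ∧ auxG2.terms 4 0 = [] :=
  ⟨by decide +kernel, by decide +kernel, by decide +kernel, by decide +kernel, by decide +kernel⟩

theorem terms_pg7 :
    auxG2.terms 7 6 = [(8, -1, 1, 1), (9, 1, 2, 1), (10, 1, 3, 1), (11, 1, 3, 2)] ∧
    auxG2.terms 7 8 = [(9, -2, 1, 1), (10, -3, 2, 1), (11, 3, 1, 2)] ∧
    auxG2.terms 7 9 = [(10, 3, 1, 1)] ∧ auxG2.terms 7 10 = [] ∧ auxG2.terms 7 11 = [] :=
  ⟨by decide +kernel, by decide +kernel, by decide +kernel, by decide +kernel, by decide +kernel⟩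

theorem terms_pg4 :
    auxG2.terms 4 6 = [] ∧ auxG2.terms 4 8 = [(6, -3, 1, 1)] ∧
    auxG2.terms 4 9 = [(8, -2, 1, 1), (6, 3, 2, 1), (11, -3, 1, 2)] ∧
    auxG2.terms 4 10 = [(9, 1, 1, 1), (8, -1, 2, 1), (6, 1, 3, 1), (11, -1, 3, 2)] ∧
    auxG2.terms 4 11 = [] :=
  ⟨by decide +kernel, by decide +kernel, by decide +kernel, by decide +kernel, by decide +kernel⟩

theorem side4 : ∀ m ∈ ([0, 1, 2, 3, 5, 6, 8, 9, 10, 11] : List ℕ),
    m < chevG2.nroots ∧ (m ≠ 4 ∧ m ≠ auxG2.neg 4) ∧ (m ≠ 7 ∧ m ≠ auxG2.neg 7) := by decide +kernel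

theorem mem_negU {m : ℕ} (hm : m ∈ ([0, 1, 2, 3, 5] : List ℕ)) (t : F) :
    xG gd m t ∈ chevG2.negUnipotent F := by
  refine xG_mem_negUnipotent gd ?_ t
  revert m; decide +kernel

theorem mem_posU {m : ℕ} (hm : m ∈ ([6, 8, 9, 10, 11] : List ℕ)) (t : F) :
    xG gd m t ∈ chevG2.posUnipotent F := by
  refine xG_mem_posUnipotent gd ?_ t
  revert m; decide +kernel

theorem mem_negB {m : ℕ} (hm : m ∈ ([0, 1, 2, 3, 5] : List ℕ)) (t : F) :
    xG gd m t ∈ UP F gd (negBut chevG2 auxG2 0) := by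
  have h := (side4 m (by simp at hm ⊢; tauto)).1
  exact xG_mem_UP gd ⟨h, ((negBut0_tab m h).1.2 hm)⟩ t

theorem mem_posB {m : ℕ} (hm : m ∈ ([6, 8, 9, 10, 11] : List ℕ)) (t : F) :
    xG gd m t ∈ UP F gd (posBut chevG2 0) := by
  have h := (side4 m (by simp at hm ⊢; tauto)).1
  exact xG_mem_UP gd ((negBut0_tab m h).2.2 hm) t

/-- conjugation by the lower element -/
noncomputable def cj4 (r : F) : GL chevG2.Idx F →* GL chevG2.Idx F :=
  (MulAut.conj (xG gd 4 r)).toMonoidHom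

theorem cj4_apply (r : F) (y : GL chevG2.Idx F) : cj4 r y = xG gd 4 r * y * (xG gd 4 r)⁻¹ := rfl

theorem cj4_negU (r : F) {y : GL chevG2.Idx F} (hy : y ∈ UP F gd (negBut chevG2 auxG2 0)) :
    cj4 r y ∈ chevG2.negUnipotent F := by
  have h := kk_neg (F := F) 0 r hy
  simp only [kk, xG_zero, mul_one] at h
  exact UP_negBut_le gd 0 h

theorem cj4_posU (r : F) {y : GL chevG2.Idx F} (hy : y ∈ UP F gd (posBut chevG2 0)) :
    cj4 r y ∈ chevG2.posUnipotent F := by
  have h := kk_pos (F := F) 0 r hy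
  simp only [kk, xG_zero, mul_one] at h
  exact UP_posBut_le gd 0 h

theorem kk_conj (q r : F) (y : GL chevG2.Idx F) :
    kk q r * y * (kk q r)⁻¹ = cj4 r (xG gd 7 q * y * (xG gd 7 q)⁻¹) := by
  rw [cj4_apply, kk]; group

theorem nf_prod : ∀ L : List (ℕ × F), (∀ p ∈ L, p.1 ∈ ([0, 1, 2, 3, 5] : List ℕ)) →
    nf ((L.map fun p => xG gd p.1 p.2).prod) = (L.map fun p => if p.1 = 5 then p.2 else 0).sum
  | [], _ => by simp [nf_one]
  | p :: L, h => by
    have h1 := h p List.mem_cons_self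
    have h2 : ∀ q ∈ L, q.1 ∈ ([0, 1, 2, 3, 5] : List ℕ) := fun q hq => h q (List.mem_cons_of_mem _ hq)
    rw [List.map_cons, List.prod_cons, nf_mul (mem_negU h1 _)
      (list_prod_mem fun y hy => by
        obtain ⟨q, hq, rfl⟩ := List.mem_map.1 hy
        exact mem_negU (h2 q hq) _), nf_prod L h2, List.map_cons, List.sum_cons]
    congr 1
    have h := nf_xG (F := F) ⟨p.1, (side4 p.1 (by simp at h1 ⊢; tauto)).1⟩ p.2
    simp only [Fin.ext_iff] at h
    rw [h]
    simp [three_eq, CharTwo.neg_eq]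

theorem pg_prod : ∀ L : List (ℕ × F), (∀ p ∈ L, p.1 ∈ ([6, 8, 9, 10, 11] : List ℕ)) →
    pg ((L.map fun p => xG gd p.1 p.2).prod) = (L.map fun p => if p.1 = 6 then p.2 else 0).sum
  | [], _ => by simp [pg_one]
  | p :: L, h => by
    have h1 := h p List.mem_cons_self
    have h2 : ∀ q ∈ L, q.1 ∈ ([6, 8, 9, 10, 11] : List ℕ) := fun q hq => h q (List.mem_cons_of_mem _ hq)
    rw [List.map_cons, List.prod_cons, pg_mul (mem_posU h1 _)
      (list_prod_mem fun y hy => by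
        obtain ⟨q, hq, rfl⟩ := List.mem_map.1 hy
        exact mem_posU (h2 q hq) _), pg_prod L h2, List.map_cons, List.sum_cons]
    congr 1
    have h := pg_xG (F := F) ⟨p.1, (side4 p.1 (by simp at h1 ⊢; tauto)).1⟩ p.2
    simp only [Fin.ext_iff] at h
    rw [h]
    simp [three_eq]

theorem conj_word {r m : ℕ} (hr : r = 4 ∨ r = 7) (hm : m ∈ ([0, 1, 2, 3, 5, 6, 8, 9, 10, 11] : List ℕ))
    (q t : F) :
    xG gd r q * xG gd m t * (xG gd r q)⁻¹ = ((((m, t) ::
      (auxG2.terms r m).map fun c => (c.1, (c.2.1 : F) * q ^ c.2.2.1 * t ^ c.2.2.2))).map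
        fun p => xG gd p.1 p.2).prod := by
  obtain ⟨h1, ⟨h2, h3⟩, h4, h5⟩ := side4 m hm
  rw [List.map_cons, List.prod_cons, List.map_map]
  rcases hr with rfl | rfl
  · exact conj_rule _ rfl (by decide) h1 h2 h3 q t
  · exact conj_rule _ rfl (by decide) h1 h4 h5 q t

theorem nf_cj4 (r : F) {m : ℕ} (hm : m ∈ ([0, 1, 2, 3, 5] : List ℕ)) (t : F) :
    nf (cj4 r (xG gd m t)) = if m = 5 then t else 0 := by
  rw [cj4_apply, conj_word (Or.inl rfl) (by simp at hm ⊢; tauto)]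
  obtain ⟨t5, t3, t2, t1, t0⟩ := terms_nf4
  simp only [List.mem_cons, List.not_mem_nil, or_false] at hm
  rcases hm with rfl | rfl | rfl | rfl | rfl
  all_goals rw [nf_prod _ (by simp [t5, t3, t2, t1, t0])]
  all_goals simp [t5, t3, t2, t1, t0]

theorem pg_cj4 (r : F) {m : ℕ} (hm : m ∈ ([6, 8, 9, 10, 11] : List ℕ)) (t : F) :
    pg (cj4 r (xG gd m t)) =
      if m = 6 then t else if m = 8 then r * t else if m = 9 then r ^ 2 * t
        else if m = 10 then r ^ 3 * t else 0 := by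
  rw [cj4_apply, conj_word (Or.inl rfl) (by simp at hm ⊢; tauto)]
  obtain ⟨t6, t8, t9, t10, t11⟩ := terms_pg4
  simp only [List.mem_cons, List.not_mem_nil, or_false] at hm
  rcases hm with rfl | rfl | rfl | rfl | rfl
  all_goals rw [pg_prod _ (by simp [t6, t8, t9, t10, t11])]
  all_goals simp [t6, t8, t9, t10, t11, three_eq, CharTwo.neg_eq]

theorem nf_cj4_mul (r : F) {a b : GL chevG2.Idx F} (ha : a ∈ UP F gd (negBut chevG2 auxG2 0))
    (hb : b ∈ UP F gd (negBut chevG2 auxG2 0)) : nf (cj4 r (a * b)) = nf (cj4 r a) + nf (cj4 r b) := by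
  rw [map_mul, nf_mul (cj4_negU r ha) (cj4_negU r hb)]

theorem pg_cj4_mul (r : F) {a b : GL chevG2.Idx F} (ha : a ∈ UP F gd (posBut chevG2 0))
    (hb : b ∈ UP F gd (posBut chevG2 0)) : pg (cj4 r (a * b)) = pg (cj4 r a) + pg (cj4 r b) := by
  rw [map_mul, pg_mul (cj4_posU r ha) (cj4_posU r hb)]

theorem nf_cj4_prod (r : F) : ∀ L : List (ℕ × F),
    (∀ p ∈ L, p.1 ∈ ([0, 1, 2, 3, 5] : List ℕ)) →
    nf (cj4 r (L.map fun p => xG gd p.1 p.2).prod) =
      (L.map fun p => if p.1 = 5 then p.2 else 0).sum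
  | [], _ => by simp [nf_one]
  | p :: L, h => by
    have h1 := h p List.mem_cons_self
    have h2 : ∀ q ∈ L, q.1 ∈ ([0, 1, 2, 3, 5] : List ℕ) := fun q hq => h q (List.mem_cons_of_mem _ hq)
    rw [List.map_cons, List.prod_cons, nf_cj4_mul r (mem_negB h1 _)
      (list_prod_mem fun y hy => by
        obtain ⟨q, hq, rfl⟩ := List.mem_map.1 hy
        exact mem_negB (h2 q hq) _), nf_cj4 r h1, nf_cj4_prod r L h2, List.map_cons, List.sum_cons]

theorem pg_cj4_prod (r : F) : ∀ L : List (ℕ × F),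
    (∀ p ∈ L, p.1 ∈ ([6, 8, 9, 10, 11] : List ℕ)) →
    pg (cj4 r (L.map fun p => xG gd p.1 p.2).prod) =
      (L.map fun p => if p.1 = 6 then p.2 else if p.1 = 8 then r * p.2 else
        if p.1 = 9 then r ^ 2 * p.2 else if p.1 = 10 then r ^ 3 * p.2 else 0).sum
  | [], _ => by simp [pg_one]
  | p :: L, h => by
    have h1 := h p List.mem_cons_self
    have h2 : ∀ q ∈ L, q.1 ∈ ([6, 8, 9, 10, 11] : List ℕ) := fun q hq => h q (List.mem_cons_of_mem _ hq)
    rw [List.map_cons, List.prod_cons, pg_cj4_mul r (mem_posB h1 _)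
      (list_prod_mem fun y hy => by
        obtain ⟨q, hq, rfl⟩ := List.mem_map.1 hy
        exact mem_posB (h2 q hq) _), pg_cj4 r h1, pg_cj4_prod r L h2, List.map_cons, List.sum_cons]

theorem nf_kk {v : GL chevG2.Idx F} (hv : v ∈ UP F gd (negBut chevG2 auxG2 0)) :
    ∃ f0 f1 f2 f3 : F, ∀ q r,
      nf (kk q r * v * (kk q r)⁻¹) = f0 + f1 * q + f2 * q ^ 2 + f3 * q ^ 3 := by
  induction hv using Subgroup.closure_induction with
  | one => exact ⟨0, 0, 0, 0, fun q r => by simp [nf_one]⟩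
  | mul a b ha hb iha ihb =>
    obtain ⟨a0, a1, a2, a3, e⟩ := iha
    obtain ⟨b0, b1, b2, b3, e'⟩ := ihb
    refine ⟨a0 + b0, a1 + b1, a2 + b2, a3 + b3, fun q r => ?_⟩
    rw [show kk q r * (a * b) * (kk q r)⁻¹ = (kk q r * a * (kk q r)⁻¹) * (kk q r * b * (kk q r)⁻¹) by
      group, nf_mul (UP_negBut_le gd 0 (kk_neg q r ha)) (UP_negBut_le gd 0 (kk_neg q r hb)), e, e']
    ring
  | inv a ha iha =>
    obtain ⟨a0, a1, a2, a3, e⟩ := iha
    refine ⟨-a0, -a1, -a2, -a3, fun q r => ?_⟩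
    rw [show kk q r * a⁻¹ * (kk q r)⁻¹ = (kk q r * a * (kk q r)⁻¹)⁻¹ by group,
      nf_inv (UP_negBut_le gd 0 (kk_neg q r ha)), e]
    ring
  | mem y hy =>
    obtain ⟨m, t, hm, rfl⟩ := hy
    have hm' : m ∈ ([0, 1, 2, 3, 5] : List ℕ) := (negBut0_tab m hm.1).1.1 hm.2
    have hword : ∀ q r, kk q r * xG gd m t * (kk q r)⁻¹ = cj4 r ((((m, t) ::
        (auxG2.terms 7 m).map fun c => (c.1, (c.2.1 : F) * q ^ c.2.2.1 * t ^ c.2.2.2))).map
          fun p => xG gd p.1 p.2).prod := fun q r => by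
      rw [kk_conj, conj_word (Or.inr rfl) (by simp at hm' ⊢; tauto)]
    obtain ⟨t5, t3, t2, t1, t0⟩ := terms_nf7
    simp only [List.mem_cons, List.not_mem_nil, or_false] at hm'
    rcases hm' with rfl | rfl | rfl | rfl | rfl
    · exact ⟨0, 0, 0, 0, fun q r => by rw [hword, nf_cj4_prod r _ (by simp [t0]), t0]; simp⟩
    · refine ⟨0, 0, 0, t, fun q r => ?_⟩
      rw [hword, nf_cj4_prod r _ (by simp [t1]), t1]
      simp [CharTwo.neg_eq, mul_comm]
    · refine ⟨0, 0, t, 0, fun q r => ?_⟩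
      rw [hword, nf_cj4_prod r _ (by simp [t2]), t2]
      simp [three_eq, mul_comm]
    · refine ⟨0, t, 0, 0, fun q r => ?_⟩
      rw [hword, nf_cj4_prod r _ (by simp [t3]), t3]
      simp [three_eq, mul_comm]
    · exact ⟨t, 0, 0, 0, fun q r => by rw [hword, nf_cj4_prod r _ (by simp [t5]), t5]; simp⟩

/-- the cubic form of the positive side -/
def gform (g0 g1 g2 g3 q r : F) : F :=
  g0 * (1 + q * r) ^ 3 + g1 * ((1 + q * r) ^ 2 * r) + g2 * ((1 + q * r) * r ^ 2) + g3 * r ^ 3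

theorem pg_kk {v : GL chevG2.Idx F} (hv : v ∈ UP F gd (posBut chevG2 0)) :
    ∃ g0 g1 g2 g3 : F, ∀ q r, pg (kk q r * v * (kk q r)⁻¹) = gform g0 g1 g2 g3 q r := by
  induction hv using Subgroup.closure_induction with
  | one => exact ⟨0, 0, 0, 0, fun q r => by simp [pg_one, gform]⟩
  | mul a b ha hb iha ihb =>
    obtain ⟨a0, a1, a2, a3, e⟩ := iha
    obtain ⟨b0, b1, b2, b3, e'⟩ := ihb
    refine ⟨a0 + b0, a1 + b1, a2 + b2, a3 + b3, fun q r => ?_⟩
    rw [show kk q r * (a * b) * (kk q r)⁻¹ = (kk q r * a * (kk q r)⁻¹) * (kk q r * b * (kk q r)⁻¹) by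
      group, pg_mul (UP_posBut_le gd 0 (kk_pos q r ha)) (UP_posBut_le gd 0 (kk_pos q r hb)), e, e']
    simp only [gform]; ring
  | inv a ha iha =>
    obtain ⟨a0, a1, a2, a3, e⟩ := iha
    refine ⟨-a0, -a1, -a2, -a3, fun q r => ?_⟩
    rw [show kk q r * a⁻¹ * (kk q r)⁻¹ = (kk q r * a * (kk q r)⁻¹)⁻¹ by group,
      pg_inv (UP_posBut_le gd 0 (kk_pos q r ha)), e]
    simp only [gform]; ring
  | mem y hy =>
    obtain ⟨m, t, hm, rfl⟩ := hy
    have hm' : m ∈ ([6, 8, 9, 10, 11] : List ℕ) := (negBut0_tab m hm.1.1).2.1 hm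
    have hword : ∀ q r, kk q r * xG gd m t * (kk q r)⁻¹ = cj4 r ((((m, t) ::
        (auxG2.terms 7 m).map fun c => (c.1, (c.2.1 : F) * q ^ c.2.2.1 * t ^ c.2.2.2))).map
          fun p => xG gd p.1 p.2).prod := fun q r => by
      rw [kk_conj, conj_word (Or.inr rfl) (by simp at hm' ⊢; tauto)]
    obtain ⟨t6, t8, t9, t10, t11⟩ := terms_pg7
    have h2z : (2 : F) = 0 := CharTwo.two_eq_zero
    simp only [List.mem_cons, List.not_mem_nil, or_false] at hm'
    rcases hm' with rfl | rfl | rfl | rfl | rfl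
    · refine ⟨t, 0, 0, 0, fun q r => ?_⟩
      rw [hword, pg_cj4_prod r _ (by simp [t6]), t6]
      simp [gform, three_eq, CharTwo.neg_eq]
      grind
    · refine ⟨0, t, 0, 0, fun q r => ?_⟩
      rw [hword, pg_cj4_prod r _ (by simp [t8]), t8]
      simp [gform, three_eq, CharTwo.neg_eq]
      grind
    · refine ⟨0, 0, t, 0, fun q r => ?_⟩
      rw [hword, pg_cj4_prod r _ (by simp [t9]), t9]
      simp [gform, three_eq, CharTwo.neg_eq]
      grind
    · refine ⟨0, 0, 0, t, fun q r => ?_⟩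
      rw [hword, pg_cj4_prod r _ (by simp [t10]), t10]
      simp [gform, mul_comm]
    · exact ⟨0, 0, 0, 0, fun q r => by rw [hword, pg_cj4_prod r _ (by simp [t11]), t11]; simp [gform]⟩

end Char2

section Middle

/-- the first coordinate index -/
abbrev i0 : Fin chevG2.rank := (0 : Fin 2)

/-- the second coordinate index -/
abbrev i1 : Fin chevG2.rank := (1 : Fin 2)

/-- `SL₂` elements with non zero corner in the small big cell -/
theorem exists_ldu (A q B' R' r : F) (z : Fˣ)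
    (hz : (z : F) = (1 + q * A) + ((1 + q * A) * B' + q) * R') :
    ∃ a b, xG gd 4 r * xG gd 7 q * xG gd 4 A * xG gd 7 B' * xG gd 4 R' =
      xG gd 4 a * tor chevG2 auxG2 (Pi.mulSingle i0 z) * xG gd 7 b := by
  obtain ⟨φ, hφ⟩ := CfsgLib.Steinberg.exists_sl2 (F := F) gd _ (Good.simple_lt gd 0 (by decide))
  have hu : ∀ t : F, φ (CfsgLib.Steinberg.R1Data.up t) = xG gd (chevG2.simple 0) t :=
    fun t => (hφ _ t).1 rfl
  have hd : ∀ t : F, φ (CfsgLib.Steinberg.R1Data.dn t) = xG gd (auxG2.neg (chevG2.simple 0)) t :=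
    fun t => (hφ _ t).2 rfl
  have hz0 := z.ne_zero
  let a : F := r + (A + (A * B' + 1) * R') / z
  let b : F := ((1 + q * A) * B' + q) / z
  have key : CfsgLib.Steinberg.R1Data.dn r * CfsgLib.Steinberg.R1Data.up q *
      CfsgLib.Steinberg.R1Data.dn A * CfsgLib.Steinberg.R1Data.up B' *
      CfsgLib.Steinberg.R1Data.dn R' =
      CfsgLib.Steinberg.R1Data.dn a * (CfsgLib.Steinberg.R1Data.up (z : F) *
        CfsgLib.Steinberg.R1Data.dn (-(z : F)⁻¹) * CfsgLib.Steinberg.R1Data.up (z : F) *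
        (CfsgLib.Steinberg.R1Data.up (-1) * CfsgLib.Steinberg.R1Data.dn 1 *
        CfsgLib.Steinberg.R1Data.up (-1))) * CfsgLib.Steinberg.R1Data.up b := by
    refine sl2_ext ?_
    ext i j
    fin_cases i <;> fin_cases j <;>
      simp [a, b, Matrix.SpecialLinearGroup.coe_mul, Matrix.mul_apply, Fin.sum_univ_two] <;>
      field_simp <;> (try rw [hz]) <;> ring
  have := congrArg φ key
  simp only [map_mul, hu, hd] at this
  rw [neg_simple0, simple0] at this
  refine ⟨a, b, ?_⟩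
  rw [this]
  congr 2
  have hh := hG_simple (F := F) gd (0 : Fin 2) z
  rw [← hh, hG, nG, nG]
  simp only [show chevG2.simple ((0 : Fin 2) : ℕ) = 7 from simple0,
    Good.neg_eq gd 7 (by decide), show auxG2.neg 7 = 4 by decide +kernel]
  simp [mul_assoc]

theorem chi4 (c : Fin chevG2.rank → Fˣ) :
    chi chevG2 auxG2 c 4 = c1 c / c0 c ^ 2 := by
  rw [show (4 : ℕ) = ((4 : Fin 12) : ℕ) from rfl, chi_table]
  simp [cartInt, c0, c1, div_eq_mul_inv, mul_comm, _root_.zpow_neg]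

end Middle

section Field4

theorem single0_snd (c : Fin 2 → Fˣ) (z : Fˣ) :
    (Pi.mulSingle 0 z * c : Fin 2 → Fˣ) 1 = c 1 := by simp

theorem single1_snd (c : Fin 2 → Fˣ) (z : Fˣ) :
    (Pi.mulSingle 1 z * c : Fin 2 → Fˣ) 1 = z * c 1 := by simp

variable [Fintype F]

theorem cube_eq (h4 : Fintype.card F = 4) {a : F} (ha : a ≠ 0) : a ^ 3 = 1 := by
  have := FiniteField.pow_card_sub_one_eq_one a ha
  rwa [h4] at this

theorem cubeU (h4 : Fintype.card F = 4) (a : Fˣ) : a ^ 3 = 1 := by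
  ext
  rw [Units.val_pow_eq_pow_val, cube_eq h4 a.ne_zero, Units.val_one]

theorem exists_gen (h4 : Fintype.card F = 4) : ∃ d : Fˣ, d ≠ 1 := by
  classical
  by_contra h
  push Not at h
  have h3 : Fintype.card Fˣ = 3 := by rw [Fintype.card_units, h4]
  have : Fintype.card Fˣ ≤ 1 :=
    Fintype.card_le_one_iff.2 fun a b => (h a).trans (h b).symm
  omega

theorem omega_eq (h4 : Fintype.card F = 4) {d : Fˣ} (hd : d ≠ 1) : (d : F) ^ 2 + d + 1 = 0 := by
  have h : ((d : F) - 1) * ((d : F) ^ 2 + d + 1) = 0 := by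
    linear_combination cube_eq h4 d.ne_zero
  refine (mul_eq_zero.1 h).resolve_left (sub_ne_zero.2 fun e => hd (Units.ext ?_))
  simpa using e

variable [CharP F 2]

theorem four_elems (h4 : Fintype.card F = 4) {d : Fˣ} (hd : d ≠ 1) (a : F) :
    a = 0 ∨ a = 1 ∨ a = d ∨ a = d + 1 := by
  by_cases ha : a = 0
  · exact Or.inl ha
  refine Or.inr ?_
  have h := cube_eq h4 ha
  have hw := omega_eq h4 hd
  have h2 : (2 : F) = 0 := CharTwo.two_eq_zero
  have e : (a - 1) * ((a - d) * (a - (d + 1))) = 0 := by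
    linear_combination h + (a - 1) * hw + (-(a ^ 2) * ((d : F) + 1) + (d : F) * a + 1) * h2
  rcases mul_eq_zero.1 e with e | e
  · exact Or.inl (sub_eq_zero.1 e)
  · rcases mul_eq_zero.1 e with e | e
    · exact Or.inr (Or.inl (sub_eq_zero.1 e))
    · exact Or.inr (Or.inr (sub_eq_zero.1 e))

theorem pair_inv {d : Fˣ} (hw : (d : F) ^ 2 + d + 1 = 0) :
    Pair (ell d) ((d : F) + 1) ((d : F) + 1) := by
  have h2 : (2 : F) = 0 := CharTwo.two_eq_zero
  have e : (d : F)⁻¹ = (d : F) + 1 :=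
    inv_eq_of_mul_eq_one_right (by linear_combination hw - h2)
  right
  rw [trG_ell, detG_ell, one_div, e]
  exact ⟨rfl, rfl⟩

/-- what is covered over four elements -/
theorem cov_four (h4 : Fintype.card F = 4) {d : Fˣ} (hd : d ≠ 1) (hp : Pick (ell d))
    (L : GL (Fin 2) F) (hL : ¬ NonScal L ∨ trG L ≠ 0) : Cov (ell d) L := by
  have hw := omega_eq h4 hd
  have h2 : (2 : F) = 0 := CharTwo.two_eq_zero
  have hd0 := d.ne_zero
  have p1 : Pair (ell d) (1 : F) (d : F) := Or.inl ⟨(trG_ell d).symm, (detG_ell d).symm⟩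
  have p2 := pair_inv hw
  by_cases hs : NonScal L
  · have hT := hL.resolve_left (not_not_intro hs)
    have hE := detG_ne_zero L
    rcases four_elems h4 hd (detG L) with e | e | e | e
    · exact absurd e hE
    · rcases four_elems h4 hd (trG L) with t | t | t | t
      · exact absurd t hT
      · exact hp.cov p1 p2 (prod2_of_point hs (x := 1) (z := (d : F) + 1) (by grind) hd0 (by grind))
      · exact hp.cov p1 p2 (prod2_of_point hs (x := 1) (z := 1) (by grind) hd0 (by grind))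
      · exact hp.cov p1 p2 (prod2_of_point hs (x := d) (z := d) (by grind) hd0 (by grind))
    · have hd1 : (d : F) + 1 ≠ 0 := by grind
      rcases four_elems h4 hd (trG L) with t | t | t | t
      · exact absurd t hT
      · exact hp.cov p2 p2 (prod2_of_point hs (x := 1) (z := 1) (by grind) hd1 (by grind))
      · exact hp.cov p2 p2 (prod2_of_point hs (x := 1) (z := d) (by grind) hd1 (by grind))
      · exact hp.cov p2 p2 (prod2_of_point hs (x := d) (z := 1) (by grind) hd1 (by grind))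
    · rcases four_elems h4 hd (trG L) with t | t | t | t
      · exact absurd t hT
      · exact hp.cov p1 p1 (prod2_of_point hs (x := d) (z := 1) (by grind) hd0 (by grind))
      · exact hp.cov p1 p1 (prod2_of_point hs (x := 1) (z := d) (by grind) hd0 (by grind))
      · exact hp.cov p1 p1 (prod2_of_point hs (x := 1) (z := 1) (by grind) hd0 (by grind))
  · obtain ⟨h01, h10, h00⟩ := not_not.1 hs
    have hl : L.val 0 0 ≠ 0 := fun e => detG_ne_zero L (by simp [detG, h01, e])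
    rcases four_elems h4 hd (L.val 0 0) with e | e | e | e
    · exact absurd e hl
    · refine hp.cov p1 ?_ (prod2_scalar 1 h01 h10 e (h00 ▸ e) (ell d) |> fun h => by
        simpa using h)
      exact Or.inr ⟨by simp, by simp⟩
    · refine hp.cov p1 p1 ?_
      have h := prod2_scalar (d : F) h01 h10 e (h00 ▸ e) (ell d)
      rw [trG_ell, detG_ell, mul_one, div_self hd0, pow_two, mul_div_assoc, div_self hd0, mul_one] at h
      exact h
    · obtain ⟨C, hC⟩ : ∃ P : GL (Fin 2) F, trG P = (d : F) + 1 ∧ detG P = (d : F) + 1 :=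
        ⟨mk2 ((d : F) + 1) (-((d : F) + 1)) 1 0 (by simp; grind), by simp [trG], by simp [detG]⟩
      refine hp.cov p2 p2 ?_
      have h := prod2_scalar ((d : F) + 1) h01 h10 e (h00 ▸ e) C
      rw [hC.1, hC.2] at h
      have hd1 : (d : F) + 1 ≠ 0 := by grind
      rw [mul_div_assoc, div_self hd1, mul_one, pow_two, mul_div_assoc, div_self hd1, mul_one] at h
      exact h

/-- the algebra: some conjugate has the wanted product of coordinates -/
theorem forms_not_const (h4 : Fintype.card F = 4) {d : Fˣ} (hd : d ≠ 1) {f0 f1 f2 f3 g0 g1 g2 g3 A B ρ : F}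
    {χ : Fˣ} (hρ : ρ ≠ 0) :
    ∃ q r : F, (1 + q * A) + ((1 + q * A) * ((χ : F) * (B + q)) + q) * ((χ⁻¹ : Fˣ) * r) ≠ 0 ∧
      (f0 + f1 * q + f2 * q ^ 2 + f3 * q ^ 3) * gform g0 g1 g2 g3 q r ≠ ρ := by
  by_contra hh
  push Not at hh
  have h2 : (2 : F) = 0 := CharTwo.two_eq_zero
  have hw := omega_eq h4 hd
  have hx := χ.ne_zero
  have hd0 := d.ne_zero
  rw [Units.val_inv_eq_inv_val] at hh
  have e00 := hh 0 0 (by simp)
  simp [gform] at e00
  have hf : f0 ≠ 0 := fun e => hρ (by rw [← e00, e, zero_mul])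
  have hg : g0 ≠ 0 := fun e => hρ (by rw [← e00, e, mul_zero])
  have hF : ∀ q, 1 + q * A ≠ 0 → f0 + f1 * q + f2 * q ^ 2 + f3 * q ^ 3 = f0 := fun q hq => by
    have := hh q 0 (by simpa using hq)
    simp [gform] at this
    exact mul_right_cancel₀ hg (this.trans e00.symm)
  have hG : ∀ r, 1 + B * r ≠ 0 → g0 + g1 * r + g2 * r ^ 2 + g3 * r ^ 3 = g0 := fun r hr => by
    have := hh 0 r (by
      rw [show (1 : F) + 0 * A + ((1 + 0 * A) * ((χ : F) * (B + 0)) + 0) * ((χ : F)⁻¹ * r) =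
        1 + B * r by field_simp; ring]
      exact hr)
    simp [gform] at this
    exact mul_left_cancel₀ hf (this.trans e00.symm)
  -- two candidates for a parameter outside at most two linear conditions
  have pick : ∀ a b : F, ∃ q : F, q ≠ 0 ∧ q ≠ a ∧ q ≠ b := by
    intro a b
    have n1 : (1 : F) ≠ (d : F) := fun e => hd (Units.ext (by simpa using e.symm))
    have n2 : (1 : F) ≠ (d : F) + 1 := by grind
    have n3 : (d : F) ≠ (d : F) + 1 := by grind
    have n4 : (d : F) + 1 ≠ 0 := by grind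
    by_cases h1 : (1 : F) ≠ a ∧ (1 : F) ≠ b
    · exact ⟨1, one_ne_zero, h1.1, h1.2⟩
    by_cases h3 : (d : F) ≠ a ∧ (d : F) ≠ b
    · exact ⟨d, hd0, h3.1, h3.2⟩
    refine ⟨(d : F) + 1, n4, ?_, ?_⟩ <;> grind
  -- the point at infinity
  have hinf : g3 = g0 := by
    obtain ⟨q, hq0, hq1, hq2⟩ := pick A⁻¹ ((χ : F) * B / (1 + A * B * (χ : F)))
    have hA : 1 + q * A ≠ 0 := fun e => hq1 (eq_inv_of_mul_eq_one_left (by linear_combination e - h2))
    have hq3 : q ^ 3 = 1 := cube_eq h4 hq0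
    have := hh q q⁻¹ (by
      intro e
      field_simp at e
      have e' : q * (1 + A * B * (χ : F)) = (χ : F) * B := by grind
      by_cases hn : 1 + A * B * (χ : F) = 0
      · rw [hn, mul_zero] at e'
        grind
      · exact hq2 ((eq_div_iff hn).2 e'))
    rw [hF q hA] at this
    have hs : 1 + q * q⁻¹ = 0 := by rw [mul_inv_cancel₀ hq0]; linear_combination h2
    simp [gform, hs, inv_pow, hq3] at this
    exact mul_left_cancel₀ hf (this.trans e00.symm)
  have hroot : B ≠ 0 ∧ g0 + g1 * B⁻¹ + g2 * B⁻¹ ^ 2 + g3 * B⁻¹ ^ 3 = 0 := by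
    have hd1 : (d : F) + 1 ≠ 0 := by grind
    by_cases hB : B = 0
    · have a1 := hG 1 (by simp [hB])
      have a2 := hG d (by simp [hB])
      have a3 := hG ((d : F) + 1) (by simp [hB])
      exfalso
      grind
    · have hB3 := cube_eq h4 (inv_ne_zero hB)
      have hBB : B * B⁻¹ = 1 := mul_inv_cancel₀ hB
      have a2 := hG ((d : F) * B⁻¹) (by grind)
      have a3 := hG (((d : F) + 1) * B⁻¹) (by grind)
      exact ⟨hB, by grind⟩
  obtain ⟨hB, hroot⟩ := hroot
  obtain ⟨q, hq0, hq1, hq2⟩ := pick A⁻¹ B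
  have hA : 1 + q * A ≠ 0 := fun e => hq1 (eq_inv_of_mul_eq_one_left (by linear_combination e - h2))
  have hBq : B + q ≠ 0 := fun e => hq2 (by linear_combination e - B * h2)
  have := hh q (B + q)⁻¹ (by
    intro e
    field_simp at e
    grind)
  rw [hF q hA] at this
  have hs : 1 + q * (B + q)⁻¹ = B * (B + q)⁻¹ := by
    field_simp
    linear_combination q * h2
  have hzero : gform g0 g1 g2 g3 q (B + q)⁻¹ = 0 := by
    have hform : gform g0 g1 g2 g3 q (B + q)⁻¹ =
        (B * (B + q)⁻¹) ^ 3 * (g0 + g1 * B⁻¹ + g2 * B⁻¹ ^ 2 + g3 * B⁻¹ ^ 3) := by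
      simp only [gform, hs]
      field_simp
    rw [hform, hroot, mul_zero]
  rw [hzero, mul_zero] at this
  exact hρ this.symm

theorem mid_trG {c : Fin chevG2.rank → Fˣ} (a b : F) :
    trG (mid c a b) =
      ((c0 c / c1 c : Fˣ) : F) + a * b * ((c1 c / c0 c ^ 2 : Fˣ) : F) + ((c1 c / c0 c ^ 2 : Fˣ) : F) := by
  simp [trG, mid, up, dn, dg, Matrix.mul_apply, Fin.sum_univ_two]
  ring

theorem mid_ratio (h4 : Fintype.card F = 4) (c : Fin chevG2.rank → Fˣ) :
    c0 c / c1 c = c1 c * (c1 c / c0 c ^ 2) := by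
  rw [div_eq_iff_eq_mul, ← mul_div_assoc, div_mul_eq_mul_div, eq_div_iff_mul_eq', ← pow_succ' (c0 c),
    show c1 c * c1 c * c1 c = c1 c ^ 3 by rw [pow_succ, pow_two], cubeU h4, cubeU h4]

theorem done_of_coord {y x V W : GL chevG2.Idx F} {c : Fin chevG2.rank → Fˣ} {M0 : GL (Fin 2) F}
    (hp : Pick M0) (hx : x ∈ chevG2.group F)
    (hV : V ∈ chevG2.negUnipotent F) (hW : W ∈ chevG2.posUnipotent F)
    (e : x * y * x⁻¹ = V * tor chevG2 auxG2 c * W) (hc : Cov M0 (mid c (nf V) (pg W))) :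
    Done M0 y := by
  obtain ⟨v1, hv1, a, rfl⟩ := neg_decomp stdG2 (i := 1) (by decide) hV
  obtain ⟨b, w1, hw1, rfl⟩ := pos_decomp' stdG2 (i := 1) (by decide) hW
  rw [neg_simple1, simple1] at e hc
  rw [nf_mul (UP_negBut_le gd 1 hv1) (mem_negU (by simp) a), nf_of_negBut hv1, zero_add, nf_x5,
    pg_mul (mem_posU (by simp) b) (UP_posBut_le gd 1 hw1), pg_of_posBut hw1, add_zero, pg_x6] at hc
  refine done_of_decomp hp hc hx hv1 hw1 (e.trans ?_)
  rw [← mid_eq]; group

/-- every element is covered over four elements -/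
theorem done_four (h4 : Fintype.card F = 4) {d : Fˣ} (hd : d ≠ 1) (hp : Pick (ell d))
    {y : GL chevG2.Idx F} (hy : y ∈ chevG2.group F) : Done (ell d) y := by
  have h2 : (2 : F) = 0 := CharTwo.two_eq_zero
  -- away from the line where the middle ratio is one
  have main : ∀ c, St F gd y c → c1 c ≠ 1 → Done (ell d) y := by
    rintro c ⟨x, hx, v, hv, w, hw, e⟩ hc
    obtain ⟨v1, hv1, A, rfl⟩ := neg_decomp stdG2 (i := 0) (by decide) hv
    obtain ⟨B, w1, hw1, rfl⟩ := pos_decomp' stdG2 (i := 0) (by decide) hw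
    rw [neg_simple0, simple0] at e
    obtain ⟨f0, f1, f2, f3, hf⟩ := nf_kk hv1
    obtain ⟨g0, g1, g2, g3, hg⟩ := pg_kk hw1
    have hρ : (c1 c : F) + 1 ≠ 0 := fun e => hc (Units.ext (by rw [Units.val_one]; linear_combination e - h2))
    set χ := chi chevG2 auxG2 c 7 with hχ
    obtain ⟨q, r, hz, hne⟩ := forms_not_const (A := A) (B := B) (χ := χ) (f0 := f0) (f1 := f1) (f2 := f2)
      (f3 := f3) (g0 := g0) (g1 := g1) (g2 := g2) (g3 := g3) h4 hd hρ
    set z := Units.mk0 _ hz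
    obtain ⟨a, b, hab⟩ := exists_ldu A q ((χ : F) * (B + q)) (((χ⁻¹ : Fˣ) : F) * r) r z rfl
    have hneg4 : chi chevG2 auxG2 c 4 = χ⁻¹ := by
      rw [show (4 : ℕ) = auxG2.neg 7 by decide +kernel, chi_neg gd c (by decide)]
    have hk : kk q r ∈ chevG2.group F := mul_mem (xG_mem_group gd _ _) (xG_mem_group gd _ _)
    set V := kk q r * v1 * (kk q r)⁻¹ * xG gd 4 a with hVdef
    set W := xG gd 7 ((((chi chevG2 auxG2 c 7)⁻¹ : Fˣ) : F) * b) * (kk q r * w1 * (kk q r)⁻¹)
      with hWdef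
    have hV : V ∈ chevG2.negUnipotent F := mul_mem (UP_negBut_le gd 0 (kk_neg q r hv1))
      (by rw [← neg_simple0]; exact xG_mem_negUnipotent gd (neg_simple_isNeg gd (by decide)) a)
    have hW : W ∈ chevG2.posUnipotent F := mul_mem
      (by rw [← simple0]; exact xG_mem_posUnipotent gd (simple_pos gd (by decide)) _)
      (UP_posBut_le gd 0 (kk_pos q r hw1))
    have hmid : kk q r * (xG gd 4 A * tor chevG2 auxG2 c * xG gd 7 B) * (kk q r)⁻¹ =
        xG gd 4 a * tor chevG2 auxG2 (Pi.mulSingle i0 z * c) *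
          xG gd 7 ((((chi chevG2 auxG2 c 7)⁻¹ : Fˣ) : F) * b) := by
      calc kk q r * (xG gd 4 A * tor chevG2 auxG2 c * xG gd 7 B) * (kk q r)⁻¹
          = xG gd 4 r * xG gd 7 q * xG gd 4 A *
              (tor chevG2 auxG2 c * (xG gd 7 B * (xG gd 7 q)⁻¹) * (xG gd 4 r)⁻¹) := by rw [kk]; group
        _ = xG gd 4 r * xG gd 7 q * xG gd 4 A * xG gd 7 ((χ : F) * (B + q)) *
              xG gd 4 (((χ⁻¹ : Fˣ) : F) * r) * tor chevG2 auxG2 c := by
            rw [xG_inv, xG_inv, xG_add, CharTwo.neg_eq, CharTwo.neg_eq, tor_xG gd c (by decide), ← hχ,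
              mul_assoc _ (tor chevG2 auxG2 c), tor_xG gd c (by decide), hneg4]
            simp only [mul_assoc]
        _ = _ := by
            rw [hab, mul_assoc _ _ (tor chevG2 auxG2 c), xG_tor gd c (by decide), map_mul]
            simp only [mul_assoc]
    have e' : kk q r * x * y * (kk q r * x)⁻¹ =
        V * tor chevG2 auxG2 (Pi.mulSingle i0 z * c) * W := by
      calc kk q r * x * y * (kk q r * x)⁻¹ = kk q r * (x * y * x⁻¹) * (kk q r)⁻¹ := by group
        _ = (kk q r * v1 * (kk q r)⁻¹) * (kk q r * (xG gd 4 A * tor chevG2 auxG2 c * xG gd 7 B) *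
              (kk q r)⁻¹) * (kk q r * w1 * (kk q r)⁻¹) := by rw [e]; group
        _ = _ := by rw [hmid, hVdef, hWdef]; group
    refine done_of_coord hp (mul_mem hk hx) hV hW e' (cov_four h4 hd hp _ (Or.inr ?_))
    have eV : nf V = f0 + f1 * q + f2 * q ^ 2 + f3 * q ^ 3 := by
      rw [hVdef, nf_mul (UP_negBut_le gd 0 (kk_neg q r hv1))
        (by rw [← neg_simple0]; exact xG_mem_negUnipotent gd (neg_simple_isNeg gd (by decide)) a), hf,
        show (4 : ℕ) = ((4 : Fin 12) : ℕ) from rfl, nf_xG]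
      simp
    have eW : pg W = gform g0 g1 g2 g3 q r := by
      rw [hWdef, pg_mul (by rw [← simple0]; exact xG_mem_posUnipotent gd (simple_pos gd (by decide)) _)
        (UP_posBut_le gd 0 (kk_pos q r hw1)), hg,
        show (7 : ℕ) = ((7 : Fin 12) : ℕ) from rfl, pg_xG]
      simp
    rw [mid_trG, eV, eW]
    set c' : Fin chevG2.rank → Fˣ := Pi.mulSingle i0 z * c
    have h1 : c1 c' = c1 c := single0_snd c z
    rw [mid_ratio h4 c', h1]
    intro hzero
    apply hne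
    have hb0 := (c1 c / c0 c' ^ 2).ne_zero
    rw [Units.val_mul] at hzero
    have : ((c1 c : F) + (f0 + f1 * q + f2 * q ^ 2 + f3 * q ^ 3) * gform g0 g1 g2 g3 q r + 1) *
        ((c1 c / c0 c' ^ 2 : Fˣ) : F) = 0 := by linear_combination hzero
    linear_combination (mul_eq_zero.1 this).resolve_right hb0 - ((c1 c : F) + 1) * h2
  obtain ⟨c, hs⟩ := exists_bigCell stdG2 hy
  by_cases hc : c1 c = 1
  swap
  · exact main c hs hc
  obtain ⟨x, hx, v, hv, w, hw, e⟩ := hs
  by_cases hab : nf v = 0 ∧ pg w = 0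
  · refine done_of_coord hp hx hv hw e (cov_four h4 hd hp _ (Or.inl ?_))
    rw [hab.1, hab.2]
    refine not_not_intro ⟨by simp [mid, up, dn, dg, Matrix.mul_apply, Fin.sum_univ_two],
      by simp [mid, up, dn, dg, Matrix.mul_apply, Fin.sum_univ_two], ?_⟩
    have hr := mid_ratio h4 c
    rw [hc, one_mul] at hr
    simp [mid, up, dn, dg, Matrix.mul_apply, Fin.sum_univ_two]
    simpa [hc] using congrArg Units.val hr
  · have hmove := move_of_parts stdG2 i1 hx hv hw e ?_ d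
    · refine main _ hmove ?_
      have : c1 (Pi.mulSingle i1 d * c) = d * c1 c := single1_snd c d
      rw [this, hc, mul_one]
      exact hd
    · rcases not_and_or.1 hab with h | h
      · exact Or.inr (Or.inl fun hm => h (nf_of_negBut hm))
      · exact Or.inr (Or.inr fun hm => h (pg_of_posBut hm))

end Field4

end CfsgLib.ThompsonG2
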