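import Mathlib

/-!
Products of two conjugates in `GL₂`, by trace and determinant.
-/

set_option autoImplicit false

namespace CfsgLib.ThompsonG2

open Matrix
open scoped MatrixGroups

variable {F : Type*} [Field F]

/-- `L` is not a scalar -/
def NonScal (L : GL (Fin 2) F) : Prop :=
  ¬ (L.val 0 1 = 0 ∧ L.val 1 0 = 0 ∧ L.val 0 0 = L.val 1 1)

/-- trace -/
def trG (L : GL (Fin 2) F) : F := L.val 0 0 + L.val 1 1

/-- determinant -/
def detG (L : GL (Fin 2) F) : F := L.val 0 0 * L.val 1 1 - L.val 0 1 * L.val 1 0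

theorem detG_eq (L : GL (Fin 2) F) : detG L = L.val.det := (Matrix.det_fin_two L.val).symm

theorem detG_ne_zero (L : GL (Fin 2) F) : detG L ≠ 0 := by
  rw [detG_eq]
  exact (L.isUnit.map Matrix.detMonoidHom).ne_zero

theorem detG_mul (L M : GL (Fin 2) F) : detG (L * M) = detG L * detG M := by
  simp [detG_eq, Units.val_mul]

/-- a unit from a matrix with determinant prime to zero -/
noncomputable def mk2 (a b c e : F) (h : a * e - b * c ≠ 0) : GL (Fin 2) F :=
  Matrix.GeneralLinearGroup.mkOfDetNeZero !![a, b; c, e] (by simpa [Matrix.det_fin_two] using h)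

@[simp] theorem mk2_val (a b c e : F) (h : a * e - b * c ≠ 0) :
    (mk2 a b c e h).val = !![a, b; c, e] := rfl

theorem ext2 {L M : GL (Fin 2) F} (h0 : L.val 0 0 = M.val 0 0) (h1 : L.val 0 1 = M.val 0 1)
    (h2 : L.val 1 0 = M.val 1 0) (h3 : L.val 1 1 = M.val 1 1) : L = M := by
  apply Units.ext
  ext i j
  fin_cases i <;> fin_cases j <;> assumption

/-- a non scalar element is conjugate to its companion -/
theorem exists_conj_comp {L : GL (Fin 2) F} (h : NonScal L) :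
    ∃ C N : GL (Fin 2) F, C * L * C⁻¹ = N ∧ N.val = !![0, -detG L; 1, trG L] := by
  have hN : (0 : F) * trG L - (-detG L) * 1 ≠ 0 := by simpa using detG_ne_zero L
  obtain ⟨p, q, hpq⟩ : ∃ p q : F,
      p * (L.val 1 0 * p + L.val 1 1 * q) - (L.val 0 0 * p + L.val 0 1 * q) * q ≠ 0 := by
    by_cases h1 : L.val 1 0 = 0
    · by_cases h2 : L.val 0 1 = 0
      · refine ⟨1, 1, ?_⟩
        have : L.val 0 0 ≠ L.val 1 1 := fun e => h ⟨h2, h1, e⟩
        simpa [h1, h2, sub_eq_zero] using this.symm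
      · exact ⟨0, 1, by simpa using h2⟩
    · exact ⟨1, 0, by simpa using h1⟩
  refine ⟨(mk2 p (L.val 0 0 * p + L.val 0 1 * q) q (L.val 1 0 * p + L.val 1 1 * q) hpq)⁻¹,
    mk2 0 (-detG L) 1 (trG L) hN, ?_, rfl⟩
  rw [inv_inv, mul_assoc, inv_mul_eq_iff_eq_mul]
  apply ext2 <;>
    simp [Matrix.mul_apply, Fin.sum_univ_two, detG, trG] <;> ring

theorem conj_of_trdet {L M : GL (Fin 2) F} (hL : NonScal L) (hM : NonScal M)
    (ht : trG L = trG M) (hd : detG L = detG M) : ∃ C, C * L * C⁻¹ = M := by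
  obtain ⟨C, N, hC, hN⟩ := exists_conj_comp hL
  obtain ⟨C', N', hC', hN'⟩ := exists_conj_comp hM
  have : N = N' := Units.ext (by rw [hN, hN', ht, hd])
  refine ⟨C'⁻¹ * C, ?_⟩
  subst this
  calc C'⁻¹ * C * L * (C'⁻¹ * C)⁻¹ = C'⁻¹ * (C * L * C⁻¹) * C' := by group
    _ = M := by rw [hC, ← hC']; group

theorem nonScal_of_disc {L : GL (Fin 2) F} (h : trG L ^ 2 ≠ 4 * detG L) : NonScal L := by
  rintro ⟨h1, h2, h3⟩
  apply h
  simp only [trG, detG, h1, h2, h3]
  ring

/-- invariance under conjugation -/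
theorem trG_conj (C L : GL (Fin 2) F) : trG (C * L * C⁻¹) = trG L := by
  have e : ∀ M : GL (Fin 2) F, trG M = M.val.trace := fun M => (Matrix.trace_fin_two M.val).symm
  rw [e, e, Units.val_mul, Units.val_mul, Matrix.trace_mul_cycle, Units.inv_mul, one_mul]

theorem detG_conj (C L : GL (Fin 2) F) : detG (C * L * C⁻¹) = detG L := by
  have h : detG C⁻¹ * detG C = 1 := by
    rw [← detG_mul, inv_mul_cancel]; simp [detG]
  rw [detG_mul, detG_mul, mul_comm (detG C), mul_assoc, mul_comm (detG C), h, mul_one]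

/-- `L` is a product of a member of the class `(t₁, d₁)` and one of the class `(t₂, d₂)` -/
def Prod2 (t₁ d₁ t₂ d₂ : F) (L : GL (Fin 2) F) : Prop :=
  ∃ P R : GL (Fin 2) F, L = P * R ∧ (trG P = t₁ ∧ detG P = d₁) ∧ (trG R = t₂ ∧ detG R = d₂)

/-- a point on the conic gives a factorisation -/
theorem prod2_of_point {L : GL (Fin 2) F} (hL : NonScal L) {t₁ d₁ t₂ d₂ x z : F}
    (he : detG L = d₁ * d₂) (hd₁ : d₁ ≠ 0)
    (hp : x ^ 2 + trG L * x * z + detG L * z ^ 2 - t₁ * x - d₁ * t₂ * z + d₁ = 0) :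
    Prod2 t₁ d₁ t₂ d₂ L := by
  obtain ⟨C, N, hC, hN⟩ := exists_conj_comp hL
  have hdet : x * (t₁ - x) - (z * detG L + x * trG L - d₁ * t₂) * z = d₁ := by
    linear_combination -hp
  set P0 := mk2 x (z * detG L + x * trG L - d₁ * t₂) z (t₁ - x) (by rw [hdet]; exact hd₁) with hP0
  have hP0d : detG P0 = d₁ := by simpa [hP0, detG] using hdet
  have hP0t : trG P0 = t₁ := by simp [hP0, trG]
  have hNd : detG N = d₁ * d₂ := by rw [← hC, detG_conj, he]
  have hRd : detG (P0⁻¹ * N) = d₂ := by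
    have h1 : detG P0 * detG P0⁻¹ = 1 := by rw [← detG_mul, mul_inv_cancel]; simp [detG]
    rw [hP0d] at h1
    rw [detG_mul, hNd, ← mul_assoc, mul_comm (detG P0⁻¹), h1, one_mul]
  have hmul : P0 * (P0⁻¹ * N) = N := mul_inv_cancel_left _ _
  have hRt : trG (P0⁻¹ * N) = t₂ := by
    generalize P0⁻¹ * N = R at hmul
    have h00 := congrArg (fun u : GL (Fin 2) F => (u : Matrix (Fin 2) (Fin 2) F) 0 0) hmul
    have h01 := congrArg (fun u : GL (Fin 2) F => (u : Matrix (Fin 2) (Fin 2) F) 0 1) hmul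
    have h10 := congrArg (fun u : GL (Fin 2) F => (u : Matrix (Fin 2) (Fin 2) F) 1 0) hmul
    have h11 := congrArg (fun u : GL (Fin 2) F => (u : Matrix (Fin 2) (Fin 2) F) 1 1) hmul
    simp [hP0, hN, Matrix.mul_apply, Fin.sum_univ_two] at h00 h01 h10 h11
    apply mul_left_cancel₀ hd₁
    rw [trG]
    linear_combination (t₁ - x) * h00 - (z * detG L + x * trG L - d₁ * t₂) * h10 - z * h01 +
      x * h11 - (R.val 0 0 + R.val 1 1) * hdet
  refine ⟨C⁻¹ * P0 * C, C⁻¹ * (P0⁻¹ * N) * C, ?_, ⟨?_, ?_⟩, ⟨?_, ?_⟩⟩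
  · rw [← hC]; group
  · rw [← hP0t]; simpa using trG_conj C⁻¹ P0
  · rw [← hP0d]; simpa using detG_conj C⁻¹ P0
  · rw [← hRt]; simpa using trG_conj C⁻¹ (P0⁻¹ * N)
  · rw [← hRd]; simpa using detG_conj C⁻¹ (P0⁻¹ * N)

/-- a scalar is a product of an element and the conjugate of its adjugate -/
theorem prod2_scalar {L : GL (Fin 2) F} (l : F) (h01 : L.val 0 1 = 0) (h10 : L.val 1 0 = 0)
    (h00 : L.val 0 0 = l) (h11 : L.val 1 1 = l) (P : GL (Fin 2) F) :
    Prod2 (trG P) (detG P) (l * trG P / detG P) (l ^ 2 / detG P) L := by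
  have hd := detG_ne_zero P
  have hl : l ≠ 0 := by
    have := detG_ne_zero L
    simpa [detG, h01, h10, h00, h11] using this
  have hR : (l / detG P * P.val 1 1) * (l / detG P * P.val 0 0) -
      (-(l / detG P * P.val 0 1)) * (-(l / detG P * P.val 1 0)) = l ^ 2 / detG P := by
    have e : P.val 0 0 * P.val 1 1 - P.val 0 1 * P.val 1 0 = detG P := rfl
    field_simp
    linear_combination e
  refine ⟨P, mk2 (l / detG P * P.val 1 1) (-(l / detG P * P.val 0 1))
    (-(l / detG P * P.val 1 0)) (l / detG P * P.val 0 0)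
    (by rw [hR]; exact div_ne_zero (pow_ne_zero _ hl) hd), ?_, ⟨rfl, rfl⟩, ⟨?_, ?_⟩⟩
  · have e : P.val 0 0 * P.val 1 1 - P.val 0 1 * P.val 1 0 = detG P := rfl
    apply ext2 <;>
      simp [Matrix.mul_apply, Fin.sum_univ_two, h01, h10, h00, h11] <;>
      field_simp <;> (first | ring1 | linear_combination (-1 : F) * e)
  · simp [trG]; ring
  · simpa [detG] using hR

end CfsgLib.ThompsonG2
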