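import Cfsg.Agent.Lib.Chev.G2.SingerTorus
import Cfsg.Agent.Lib.Chev.Twist.Basic
import Cfsg.Agent.Lib.KnownB.Thompson.Cover
import Cfsg.Agent.Lib.KnownB.Thompson.BigCell
import Cfsg.Agent.Lib.KnownB.ThompsonG2.Mat

/-!
The long root `GL₂` of `G₂` and the element inverting the torus.
-/

set_option autoImplicit false
set_option maxRecDepth 100000

namespace CfsgLib.ThompsonG2

open Cfsg.Lie Matrix CfsgLib.Chev CfsgLib.Chev.G2 CfsgLib.Thompson
open scoped MatrixGroups

variable {F : Type*} [Field F]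

local notation "G2D" => chevG2
local notation "gd" => stdG2.good

/-- `diag((det M)⁻¹, M)` -/
noncomputable def blkSL (M : GL (Fin 2) F) : SL(3, F) :=
  ⟨!![(detG M)⁻¹, 0, 0; 0, M.val 0 0, M.val 0 1; 0, M.val 1 0, M.val 1 1], by
    have h := detG_ne_zero M
    have e : M.val 0 0 * M.val 1 1 - M.val 0 1 * M.val 1 0 = detG M := rfl
    simp [Matrix.det_fin_three]
    field_simp
    linear_combination e⟩

/-- the embedding -/
noncomputable def blk : GL (Fin 2) F →* SL(3, F) :=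
  MonoidHom.mk' blkSL fun M N => by
    refine Subtype.ext ?_
    show (blkSL (M * N)).1 = (blkSL M).1 * (blkSL N).1
    simp only [blkSL]
    ext i j
    fin_cases i <;> fin_cases j <;>
      simp [Matrix.mul_apply, Fin.sum_univ_three, Fin.sum_univ_two, detG_mul, mul_comm]

/-- the long root `GL₂` -/
noncomputable def Phi : GL (Fin 2) F →* GL chevG2.Idx F := phi.comp blk

theorem Phi_apply (M : GL (Fin 2) F) : Phi M = phi (blkSL M) := rfl

theorem Phi_mem (M : GL (Fin 2) F) : Phi M ∈ chevG2.group F := phi_mem _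

/-- torus coordinates -/
def vec2 (c0 c1 : Fˣ) : Fin chevG2.rank → Fˣ := (![c0, c1] : Fin 2 → Fˣ)

/-- first coordinate -/
def c0 (c : Fin chevG2.rank → Fˣ) : Fˣ := c (0 : Fin 2)

/-- second coordinate -/
def c1 (c : Fin chevG2.rank → Fˣ) : Fˣ := c (1 : Fin 2)

theorem eta_vec (c : Fin chevG2.rank → Fˣ) : vec2 (c0 c) (c1 c) = c := by
  funext i
  change Fin 2 at i
  fin_cases i <;> rfl

/-- elementary matrices -/
noncomputable def up (a : F) : GL (Fin 2) F := mk2 1 a 0 1 (by simp)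

/-- elementary matrices -/
noncomputable def dn (a : F) : GL (Fin 2) F := mk2 1 0 a 1 (by simp)

/-- diagonal matrices -/
noncomputable def dg (a b : Fˣ) : GL (Fin 2) F := mk2 (a : F) 0 0 (b : F) (by simp)

theorem phi_eq {A : SL(3, F)} {r : Fin 12} {t : F}
    (h : ∀ x : chevG2.Idx → F, ofTri (act A (toTri x)) = chevG2.xMat F r t *ᵥ x) :
    phi A = xG gd (r : ℕ) t := by
  apply Units.ext
  rw [phi_val, xG_val, ChevalleyDatum.x, dif_pos (show (r : ℕ) < chevG2.nroots from r.isLt)]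
  exact Matrix.ext_iff_mulVec.2 fun x => by rw [phiMat_mulVec, h x]; rfl

theorem x5_eq (t : F) : xG gd 5 t = Phi (up (-t)) := by
  have h : ∀ x : chevG2.Idx → F, ofTri (act (CfsgLib.StSL.tv 1 2 (-t)) (toTri x)) =
      chevG2.xMat F (5 : Fin 12) t *ᵥ x := fun x => by rw [phi_tv_5, neg_neg]
  rw [Phi_apply, show (5 : ℕ) = ((5 : Fin 12) : ℕ) from rfl, ← phi_eq (r := 5) h]
  congr 1
  refine Subtype.ext ?_
  ext i j
  fin_cases i <;> fin_cases j <;>
    simp [blkSL, up, detG, CfsgLib.StSL.tv, Matrix.SpecialLinearGroup.transvection_coe,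
      Matrix.single_apply]

theorem x6_eq (t : F) : xG gd 6 t = Phi (dn (-t)) := by
  have h : ∀ x : chevG2.Idx → F, ofTri (act (CfsgLib.StSL.tv 2 1 (-t)) (toTri x)) =
      chevG2.xMat F (6 : Fin 12) t *ᵥ x := fun x => by rw [phi_tv_6, neg_neg]
  rw [Phi_apply, show (6 : ℕ) = ((6 : Fin 12) : ℕ) from rfl, ← phi_eq (r := 6) h]
  congr 1
  refine Subtype.ext ?_
  ext i j
  fin_cases i <;> fin_cases j <;>
    simp [blkSL, dn, detG, CfsgLib.StSL.tv, Matrix.SpecialLinearGroup.transvection_coe,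
      Matrix.single_apply]

theorem tor_eq_Phi (a b : Fˣ) :
    tor chevG2 auxG2 (vec2 a b) = (Phi (dg (a / b) (b / a ^ 2)) : GL chevG2.Idx F) := by
  rw [show vec2 a b = cvec a (a / b) from by simp [vec2, cvec]; rfl, ← phi_dSL, Phi_apply]
  congr 1
  refine Subtype.ext ?_
  have h1 := a.ne_zero
  have h2 := b.ne_zero
  ext i j
  fin_cases i <;> fin_cases j <;>
    simp [dSL, blkSL, dg, detG, div_eq_mul_inv, Units.val_mul] <;> field_simp

theorem Phi_dg (a b : Fˣ) : Phi (dg a b) = tor chevG2 auxG2 (vec2 (a * b)⁻¹ (a * b * a)⁻¹) := by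
  rw [tor_eq_Phi]
  congr 1
  have h1 := a.ne_zero
  have h2 := b.ne_zero
  apply ext2 <;> simp [dg] <;> field_simp

/-- the generators of `GL₂` -/
theorem gl2_cases {P : GL (Fin 2) F → Prop} (hup : ∀ t, P (up t)) (hdn : ∀ t, P (dn t))
    (hdg : ∀ a b, P (dg a b)) (hmul : ∀ M N, P M → P N → P (M * N)) (M : GL (Fin 2) F) : P M := by
  have key : ∀ M : GL (Fin 2) F, M.val 0 0 ≠ 0 → P M := by
    intro M h
    have hd : detG M / M.val 0 0 ≠ 0 := div_ne_zero (detG_ne_zero M) h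
    have e : M = dn (M.val 1 0 / M.val 0 0) *
        dg (Units.mk0 _ h) (Units.mk0 _ hd) * up (M.val 0 1 / M.val 0 0) := by
      have e : M.val 0 0 * M.val 1 1 - M.val 0 1 * M.val 1 0 = detG M := rfl
      apply ext2 <;> simp [dn, up, dg, Matrix.mul_apply, Fin.sum_univ_two] <;> field_simp <;>
        linear_combination e
    rw [e]
    exact hmul _ _ (hmul _ _ (hdn _) (hdg _ _)) (hup _)
  by_cases h : M.val 0 0 = 0
  · have h10 : M.val 1 0 ≠ 0 := fun e => detG_ne_zero M (by simp [detG, h, e])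
    have e : M = up 1 * (up (-1) * M) := by
      apply ext2 <;> simp [up, Matrix.mul_apply, Matrix.vecMul, dotProduct, Fin.sum_univ_two] <;> ring
    rw [e]
    refine hmul _ _ (hup 1) (key _ ?_)
    simpa [up, Matrix.mul_apply, Matrix.vecMul, dotProduct, Fin.sum_univ_two, h] using h10
  · exact key M h

theorem xG_mem_rankOne5 (t : F) : xG gd 5 t ∈ rankOne F chevG2 1 := by
  rw [show (5 : ℕ) = auxG2.neg (chevG2.simple 1) by decide +kernel]
  exact rankOne_neg gd (by decide) t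

theorem xG_mem_rankOne6 (t : F) : xG gd 6 t ∈ rankOne F chevG2 1 := by
  rw [show (6 : ℕ) = chevG2.simple 1 by decide +kernel]
  exact rankOne_pos gd 1 t

theorem Phi_normalizes {P : ℕ → Prop} (hP : ∀ r, P r → r < chevG2.nroots)
    (hR : rankOne F chevG2 1 ≤ Subgroup.normalizer (UP F gd P : Set (GL chevG2.Idx F)))
    (M : GL (Fin 2) F) :
    Phi M ∈ Subgroup.normalizer (UP F gd P : Set (GL chevG2.Idx F)) := by
  refine gl2_cases (P := fun M => Phi M ∈ Subgroup.normalizer (UP F gd P : Set (GL chevG2.Idx F)))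
    (fun t => ?_) (fun t => ?_) (fun a b => ?_) (fun M N h1 h2 => ?_) M
  · rw [← neg_neg t, ← x5_eq]; exact hR (xG_mem_rankOne5 _)
  · rw [← neg_neg t, ← x6_eq]; exact hR (xG_mem_rankOne6 _)
  · rw [Phi_dg]
    refine mem_normalizer_UP (K := (tor chevG2 auxG2).range) (fun y hy r u hr => ?_) ⟨_, rfl⟩
    obtain ⟨c, rfl⟩ := hy
    rw [tor_conj_xG gd c (hP r hr)]
    exact xG_mem_UP gd hr _
  · rw [map_mul]; exact mul_mem h1 h2

theorem Phi_norm_pos (M : GL (Fin 2) F) :
    Phi M ∈ Subgroup.normalizer (UP F gd (posBut chevG2 1) : Set (GL chevG2.Idx F)) :=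
  Phi_normalizes (fun _ h => h.1.1) (rankOne_le_normalizer stdG2 (by decide)) M

theorem Phi_norm_neg (M : GL (Fin 2) F) :
    Phi M ∈ Subgroup.normalizer (UP F gd (negBut chevG2 auxG2 1) : Set (GL chevG2.Idx F)) :=
  Phi_normalizes (fun _ h => h.1) (rankOne_le_normalizer_neg stdG2 (by decide)) M

/-! ### the element inverting the torus -/

/-- the word of the longest element -/
def w0 : List ℕ := [0, 1, 0, 1, 0, 1]

/-- the longest monomial element -/
noncomputable def N0 : GL chevG2.Idx F := nW F gd w0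

theorem letters_w0 : Letters chevG2 w0 := by
  intro i hi
  revert i
  decide +kernel

theorem w0_tab : ∀ r < chevG2.nroots, wf auxG2 w0 r = auxG2.neg r ∧
    (sgnW auxG2 w0 r = 1 ∨ sgnW auxG2 w0 r = -1) := by decide +kernel

theorem N0_conj {r : ℕ} (hr : r < chevG2.nroots) (t : F) :
    N0 * xG gd r t * N0⁻¹ = xG gd (auxG2.neg r) ((sgnW auxG2 w0 r : F) * t) := by
  rw [N0, nW_conj_xG gd letters_w0 hr t, (w0_tab r hr).1]

theorem N0_mem : (N0 : GL chevG2.Idx F) ∈ chevG2.group F :=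
  monomialSubgroup_le_group gd (nW_mem gd letters_w0)

theorem N0_conj5 (t : F) :
    N0 * xG gd 5 t * N0⁻¹ = xG gd 6 ((sgnW auxG2 w0 5 : F) * t) := by
  rw [N0_conj (by decide)]
  rw [show auxG2.neg 5 = 6 by decide +kernel]

theorem N0_conj6 (t : F) :
    N0 * xG gd 6 t * N0⁻¹ = xG gd 5 ((sgnW auxG2 w0 6 : F) * t) := by
  rw [N0_conj (by decide)]
  rw [show auxG2.neg 6 = 5 by decide +kernel]

theorem sgn56 : sgnW auxG2 w0 5 * sgnW auxG2 w0 6 = 1 := by decide +kernel

theorem sgn56F : (sgnW auxG2 w0 5 : F) * (sgnW auxG2 w0 6 : F) = 1 := by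
  rw [← Int.cast_mul, sgn56, Int.cast_one]

theorem N0_tor (c : Fin chevG2.rank → Fˣ) :
    N0 * tor chevG2 auxG2 c * N0⁻¹ = (tor chevG2 auxG2 c⁻¹ : GL chevG2.Idx F) := by
  obtain ⟨d, hd⟩ := monomial_conj_tor gd (nW_mem (F := F) gd letters_w0) c
  rw [N0, hd]
  apply Units.ext
  rw [tor_val, tor_val]
  refine congrArg Matrix.diagonal (funext fun j => ?_)
  rcases j with j | ⟨s, hs⟩
  · rfl
  obtain ⟨r, hr, rfl⟩ : ∃ r < chevG2.nroots, auxG2.neg r = s :=
    ⟨_, Good.neg_lt gd s hs, Good.neg_neg gd s hs⟩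
  have hne : (sgnW auxG2 w0 r : F) ≠ 0 := by rcases (w0_tab r hr).2 with e | e <;> simp [e]
  have h1 := tor_conj_xG (F := F) gd d (Good.neg_lt gd r hr) ((sgnW auxG2 w0 r : F) * 1)
  rw [← hd, show nW F gd w0 = N0 from rfl, ← N0_conj hr] at h1
  have h2 : N0 * (tor chevG2 auxG2 c * xG gd r (1 : F) * (tor chevG2 auxG2 c)⁻¹) * N0⁻¹ =
      xG gd (auxG2.neg r) ((sgnW auxG2 w0 r : F) * ((chi chevG2 auxG2 c r : F) * 1)) := by
    rw [tor_conj_xG gd c hr, N0_conj hr]
  have h3 : xG gd (auxG2.neg r) ((sgnW auxG2 w0 r : F) * ((chi chevG2 auxG2 c r : F) * 1)) =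
      xG gd (auxG2.neg r)
        ((chi chevG2 auxG2 d (auxG2.neg r) : F) * ((sgnW auxG2 w0 r : F) * 1)) := by
    rw [← h2, ← h1]; group
  have h4 := CfsgLib.KnownB.ChevField.xG_inj stdG2 (Good.neg_lt gd r hr) h3
  show (chi chevG2 auxG2 d (auxG2.neg r) : F) = (chi chevG2 auxG2 c⁻¹ (auxG2.neg r) : F)
  have h5 : chi chevG2 auxG2 d (auxG2.neg r) = chi chevG2 auxG2 c r :=
    Units.ext (mul_left_cancel₀ hne (by linear_combination -h4))
  rw [h5, chi_neg gd _ hr]
  congr 1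
  simp [chi, Finset.prod_inv_distrib]

theorem N0_Phi_dg (a b : Fˣ) :
    N0 * Phi (dg a b) * N0⁻¹ = (Phi (dg a⁻¹ b⁻¹) : GL chevG2.Idx F) := by
  rw [Phi_dg, N0_tor, Phi_dg]
  congr 1
  funext i
  change Fin 2 at i
  fin_cases i <;> simp [vec2, mul_comm] <;> show _⁻¹ = _ <;> simp [mul_comm, mul_left_comm]

/-- conjugation by `N0` carries the positive radical to the negative one -/
theorem N0_UP {y : GL chevG2.Idx F} (hy : y ∈ UP F gd (negBut chevG2 auxG2 1)) :
    N0 * y * N0⁻¹ ∈ UP F gd (posBut chevG2 1) := by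
  have : UP F gd (negBut chevG2 auxG2 1) ≤
      (UP F gd (posBut chevG2 1)).comap (MulAut.conj (N0 (F := F))).toMonoidHom :=
    UP_le fun r t hr => by
      show N0 * xG gd r t * N0⁻¹ ∈ UP F gd (posBut chevG2 1)
      rw [N0_conj hr.1]
      exact xG_mem_UP gd hr.2 _
  exact this hy

end CfsgLib.ThompsonG2
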