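import Cfsg.Agent.Lib.KnownB.ThompsonG2.Four

/-!
A semisimple class of `G₂(q)` whose square covers the non identity elements.
-/

set_option autoImplicit false
set_option maxRecDepth 100000

namespace CfsgLib.ThompsonG2

open Cfsg.Lie Matrix CfsgLib.Chev CfsgLib.Chev.G2 CfsgLib.Thompson
open scoped MatrixGroups

variable {F : Type*} [Field F] [Fintype F]

theorem dg_pow (a b : Fˣ) (n : ℕ) : (dg a b : GL (Fin 2) F) ^ n = dg (a ^ n) (b ^ n) := by
  induction n with
  | zero => apply ext2 <;> simp [dg]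
  | succ n ih =>
    rw [pow_succ, ih]
    apply ext2 <;> simp [dg, Matrix.mul_apply, Fin.sum_univ_two, pow_succ]

theorem dg_pow_card (a b : Fˣ) : (dg a b : GL (Fin 2) F) ^ (Fintype.card F - 1) = 1 := by
  classical
  have h : ∀ u : Fˣ, u ^ (Fintype.card F - 1) = 1 := fun u => by
    rw [← Fintype.card_units]; exact pow_card_eq_one
  rw [dg_pow, h, h]
  apply ext2 <;> simp [dg]

theorem coprime_order (p : ℕ) [Fact p.Prime] [CharP F p] {M : GL (Fin 2) F} {n : ℕ}
    (hM : M ^ n = 1) (hn : Fintype.card F ∣ n + 1) :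
    ¬ p ∣ orderOf (⟨Phi M, Phi_mem M⟩ : chevG2.group F) := by
  intro hp
  have h1 : (⟨Phi M, Phi_mem M⟩ : chevG2.group F) ^ n = 1 :=
    Subtype.ext (by show Phi M ^ n = 1; rw [← map_pow, hM, map_one])
  have h2 : p ∣ n := hp.trans (orderOf_dvd_of_pow_eq_one h1)
  obtain ⟨k, hk, hcard⟩ := FiniteField.card F p
  have h3 : p ∣ Fintype.card F := hcard ▸ dvd_pow_self p k.pos.ne'
  have h4 : p ∣ 1 := (Nat.dvd_add_right h2).1 (h3.trans hn)
  exact hk.ne_one (Nat.dvd_one.1 h4)

/-- the statement for one choice of element -/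
theorem finish (p : ℕ) [Fact p.Prime] [CharP F p] {M : GL (Fin 2) F} {n : ℕ} (hM : M ^ n = 1)
    (hn : Fintype.card F ∣ n + 1)
    (hcov : ∀ y ∈ chevG2.group F, y ≠ 1 → Done M y) :
    ∃ x : chevG2.group F, ¬ p ∣ orderOf x ∧
      ∀ g : chevG2.group F, g ≠ 1 → ∃ u v : chevG2.group F, g = (u * x * u⁻¹) * (v * x * v⁻¹) := by
  refine ⟨⟨Phi M, Phi_mem M⟩, coprime_order p hM hn, fun g hg => ?_⟩
  obtain ⟨x, hx, z, hz, e⟩ := hcov g g.2 fun h => hg (Subtype.ext h)
  exact ⟨⟨x, hx⟩, ⟨z, hz⟩, Subtype.ext e⟩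

theorem done_target {M : GL (Fin 2) F} (hp : Pick M) {d : Fˣ} (hd : (d : F) = detG M)
    (hns : ∀ L : GL (Fin 2) F, NonScal L → detG L = (d : F) ^ 2 → Cov M L)
    (h2 : ∃ u : Fˣ, u ≠ 1)
    (hz : ∀ b : Fˣ, ∃ z : Fˣ, b ^ 2 ≠ z ^ 3 ∧ z ^ 2 ≠ (d ^ 3)⁻¹) :
    ∀ y ∈ chevG2.group F, y ≠ 1 → Done M y := fun _ hy hy1 =>
  done_of_st hp (exists_target h2 hz hy hy1) (cov_target hp hd hns)

theorem two_units (h : 3 ≤ Fintype.card F) : ∃ u : Fˣ, u ≠ 1 := by
  classical
  have : 1 < Fintype.card Fˣ := by rw [Fintype.card_units]; omega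
  exact Fintype.exists_ne_of_one_lt_card this 1

theorem exists_param (h7 : 7 ≤ Fintype.card F) (d b : Fˣ) :
    ∃ z : Fˣ, b ^ 2 ≠ z ^ 3 ∧ z ^ 2 ≠ (d ^ 3)⁻¹ := by
  classical
  by_contra h
  push Not at h
  have hsub : (Finset.univ : Finset Fˣ).map ⟨Units.val, Units.val_injective⟩ ⊆
      (Polynomial.nthRoots 3 ((b : F) ^ 2)).toFinset ∪
        (Polynomial.nthRoots 2 (((d ^ 3)⁻¹ : Fˣ) : F)).toFinset := by
    intro x hx
    obtain ⟨z, -, rfl⟩ := Finset.mem_map.1 hx
    simp only [Function.Embedding.coeFn_mk, Finset.mem_union, Multiset.mem_toFinset]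
    by_cases e : b ^ 2 = z ^ 3
    · exact Or.inl ((Polynomial.mem_nthRoots (by norm_num)).2 (by
        rw [← Units.val_pow_eq_pow_val, ← Units.val_pow_eq_pow_val, e]))
    · exact Or.inr ((Polynomial.mem_nthRoots (by norm_num)).2 (by
        rw [← Units.val_pow_eq_pow_val, h z e]))
  have h1 := (Finset.card_le_card hsub).trans (Finset.card_union_le _ _)
  rw [Finset.card_map, Finset.card_univ, Fintype.card_units] at h1
  have h3 := (Multiset.toFinset_card_le _).trans (Polynomial.card_nthRoots 3 ((b : F) ^ 2))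
  have h2 := (Multiset.toFinset_card_le _).trans (Polynomial.card_nthRoots 2 (((d ^ 3)⁻¹ : Fˣ) : F))
  omega

/-- large fields: a regular split element -/
theorem cover_large (p : ℕ) [Fact p.Prime] [CharP F p] (h7 : 7 ≤ Fintype.card F) :
    ∃ x : chevG2.group F, ¬ p ∣ orderOf x ∧
      ∀ g : chevG2.group F, g ≠ 1 → ∃ u v : chevG2.group F, g = (u * x * u⁻¹) * (v * x * v⁻¹) := by
  classical
  obtain ⟨g, hg⟩ := IsCyclic.exists_ofOrder_eq_natCard (α := Fˣ)
  rw [Nat.card_units, Nat.card_eq_fintype_card] at hg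
  have hp : Pick (dg g (g ^ 2)) := pick_split (by omega)
  refine finish p (dg_pow_card g (g ^ 2)) (by rw [Nat.sub_add_cancel (by omega)])
    (done_target hp (d := g * g ^ 2) (by simp [detG, dg]) (fun L hL hd => ?_) (two_units (by omega))
      (exists_param h7 _))
  refine hp.cov (Or.inl ⟨rfl, rfl⟩) (Or.inl ⟨rfl, rfl⟩)
    (prod2_of_point hL (x := (g : F)) (z := 0) ?_ ?_ ?_)
  · rw [hd]; simp [detG, dg]; ring
  · exact detG_ne_zero _
  · simp [trG, detG, dg]; ring

theorem ell_pow (d : Fˣ) :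
    ((ell d) ^ 4).val = !![1 - 3 * (d : F) + (d : F) ^ 2, -(d : F) * (1 - 2 * d);
        1 - 2 * d, -(d : F) * (1 - d)] ∧
      ((ell d) ^ 5).val = !![1 - 4 * (d : F) + 3 * (d : F) ^ 2, -(d : F) * (1 - 3 * d + (d : F) ^ 2);
        1 - 3 * d + (d : F) ^ 2, -(d : F) * (1 - 2 * d)] ∧
      ((ell d) ^ 6).val = !![1 - 5 * (d : F) + 6 * (d : F) ^ 2 - (d : F) ^ 3,
        -(d : F) * (1 - 4 * d + 3 * (d : F) ^ 2);
        1 - 4 * d + 3 * (d : F) ^ 2, -(d : F) * (1 - 3 * d + (d : F) ^ 2)] := by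
  have h2 : ((ell d) ^ 2).val = !![1 - (d : F), -(d : F); 1, -(d : F)] := by
    ext i j
    fin_cases i <;> fin_cases j <;> simp [pow_two, ell, Matrix.mul_apply, Fin.sum_univ_two] <;> ring
  have h3 : ((ell d) ^ 3).val = !![1 - 2 * (d : F), -(d : F) * (1 - d); 1 - d, -(d : F)] := by
    rw [pow_succ, Units.val_mul, h2]
    ext i j
    fin_cases i <;> fin_cases j <;> simp [ell, Matrix.mul_apply, Fin.sum_univ_two] <;> ring
  have h4 : ((ell d) ^ 4).val = !![1 - 3 * (d : F) + (d : F) ^ 2, -(d : F) * (1 - 2 * d);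
      1 - 2 * d, -(d : F) * (1 - d)] := by
    rw [pow_succ, Units.val_mul, h3]
    ext i j
    fin_cases i <;> fin_cases j <;> simp [ell, Matrix.mul_apply, Fin.sum_univ_two] <;> ring
  have h5 : ((ell d) ^ 5).val = !![1 - 4 * (d : F) + 3 * (d : F) ^ 2,
      -(d : F) * (1 - 3 * d + (d : F) ^ 2); 1 - 3 * d + (d : F) ^ 2, -(d : F) * (1 - 2 * d)] := by
    rw [pow_succ, Units.val_mul, h4]
    ext i j
    fin_cases i <;> fin_cases j <;> simp [ell, Matrix.mul_apply, Fin.sum_univ_two] <;> ring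
  refine ⟨h4, h5, ?_⟩
  rw [pow_succ, Units.val_mul, h5]
  ext i j
  fin_cases i <;> fin_cases j <;> simp [ell, Matrix.mul_apply, Fin.sum_univ_two] <;> ring

theorem small_pow {d : Fˣ} {n : ℕ} (hn : (ell d) ^ n = dg d d) :
    (ell d) ^ (n * (Fintype.card F - 1)) = 1 := by
  rw [pow_mul, hn, dg_pow_card]

/-- four elements -/
theorem cover_four (p : ℕ) [Fact p.Prime] [CharP F p] (h4 : Fintype.card F = 4) :
    ∃ x : chevG2.group F, ¬ p ∣ orderOf x ∧
      ∀ g : chevG2.group F, g ≠ 1 → ∃ u v : chevG2.group F, g = (u * x * u⁻¹) * (v * x * v⁻¹) := by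
  obtain rfl : p = 2 := by
    have h : CharP F 2 := charP_of_card_eq_prime_pow (f := 2) (by rw [h4]; norm_num)
    exact CharP.eq F ‹CharP F p› h
  obtain ⟨d, hd⟩ := exists_gen h4
  have hw := omega_eq h4 hd
  have h2 : (2 : F) = 0 := CharTwo.two_eq_zero
  have hn : (ell d) ^ 5 = dg d d := by
    apply Units.ext
    rw [(ell_pow d).2.1]
    ext i j
    fin_cases i <;> fin_cases j <;> simp [dg] <;> grind
  have hp : Pick (ell d) := by
    refine pick_ell hn ?_ hd ?_ (fun _ => h2)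
    · rw [show (4 : F) = 2 * 2 by norm_num, h2, zero_mul, zero_mul]; exact one_ne_zero
    · refine Or.inl fun e => hd (Units.ext ?_)
      have e' : (d : F) ^ 2 = 1 := by rw [← Units.val_pow_eq_pow_val, e, Units.val_one]
      exact absurd (show (d : F) = 0 by linear_combination hw - e' - h2) d.ne_zero
  exact finish 2 (small_pow hn) (by rw [h4]; norm_num) fun y hy _ => done_four h4 hd hp hy

theorem z3_dec : ∀ T : ZMod 3,
    (∃ x z : ZMod 3, x ^ 2 + T * x * z + 1 * z ^ 2 - 1 * x - (-1) * 1 * z + (-1) = 0) ∨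
    (∃ x z : ZMod 3, x ^ 2 + T * x * z + 1 * z ^ 2 - 1 * x - (-1) * (-1) * z + (-1) = 0) := by
  decide +kernel

theorem z5_dec : ∀ T : ZMod 5,
    (∃ x z : ZMod 5, x ^ 2 + T * x * z + 4 * z ^ 2 - 1 * x - 2 * 1 * z + 2 = 0) ∨
    (∃ x z : ZMod 5, x ^ 2 + T * x * z + 4 * z ^ 2 - 3 * x - 3 * 3 * z + 3 = 0) := by decide +kernel

/-- three elements -/
theorem cover_three (p : ℕ) [Fact p.Prime] [CharP F p] (h3 : Fintype.card F = 3) :
    ∃ x : chevG2.group F, ¬ p ∣ orderOf x ∧
      ∀ g : chevG2.group F, g ≠ 1 → ∃ u v : chevG2.group F, g = (u * x * u⁻¹) * (v * x * v⁻¹) := by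
  classical
  let e := ZMod.ringEquivOfPrime F Nat.prime_three h3
  have h30 : (3 : F) = 0 := by
    have := FiniteField.cast_card_eq_zero F
    rw [h3] at this; exact_mod_cast this
  set d : Fˣ := -1 with hd
  have hdv : (d : F) = -1 := by simp [hd]
  have hd1 : d ≠ 1 := by
    intro e
    have : (d : F) = 1 := by rw [e, Units.val_one]
    rw [hdv] at this
    exact one_ne_zero (show (1 : F) = 0 by linear_combination this + h30)
  have hn : (ell d) ^ 4 = dg d d := by
    apply Units.ext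
    rw [(ell_pow d).1]
    ext i j
    fin_cases i <;> fin_cases j <;> simp [dg, hdv] <;> grind
  have hp : Pick (ell d) := by
    refine pick_ell hn ?_ hd1 ?_ ?_
    · rw [hdv]; intro e; exact one_ne_zero (show (1 : F) = 0 by linear_combination 2 * h30 - e)
    · refine Or.inr ?_
      rw [show d ^ 3 = d by rw [hd]; ext; simp [pow_succ]]
      exact hd1
    · intro e
      rw [show d ^ 3 = d by rw [hd]; ext; simp [pow_succ]] at e
      exact absurd e hd1
  refine finish p (small_pow hn) (by rw [h3]; norm_num) (done_target hp (by rw [detG_ell]) (fun L hL hdet => ?_)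
    ⟨d, hd1⟩ ?_)
  · have p1 : Pair (ell d) (1 : F) (-1) := Or.inl ⟨(trG_ell d).symm, by rw [detG_ell, hdv]⟩
    have p2 : Pair (ell d) (-1 : F) (-1) := Or.inr (by
      rw [trG_ell, detG_ell, hdv]; constructor <;> simp)
    rw [hdv, neg_one_sq] at hdet
    obtain ⟨T, hT⟩ := e.surjective (trG L)
    rcases z3_dec T with ⟨x, z, h⟩ | ⟨x, z, h⟩ <;> have h' := congrArg e h <;>
      simp only [map_add, map_sub, map_mul, map_pow, map_neg, map_one, map_zero, hT] at h'
    · exact hp.cov p1 p1 (prod2_of_point hL (x := e x) (z := e z) (by rw [hdet]; ring) (by simp)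
        (by rw [hdet]; exact h'))
    · exact hp.cov p1 p2 (prod2_of_point hL (x := e x) (z := e z) (by rw [hdet]; ring) (by simp)
        (by rw [hdet]; exact h'))
  · intro b
    have hsq : ∀ z : Fˣ, z ^ 2 = 1 := fun z => by
      have h := pow_card_eq_one (x := z); rwa [Fintype.card_units, h3] at h
    have hd3 : (d ^ 3)⁻¹ = d := by rw [hd]; ext; simp [pow_succ]
    refine ⟨d, ?_, ?_⟩
    · rw [hsq b, pow_succ, hsq d, one_mul]; exact hd1.symm
    · rw [hsq d, hd3]; exact hd1.symm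

/-- five elements -/
theorem cover_five (p : ℕ) [Fact p.Prime] [CharP F p] (h5 : Fintype.card F = 5) :
    ∃ x : chevG2.group F, ¬ p ∣ orderOf x ∧
      ∀ g : chevG2.group F, g ≠ 1 → ∃ u v : chevG2.group F, g = (u * x * u⁻¹) * (v * x * v⁻¹) := by
  classical
  let e := ZMod.ringEquivOfPrime F (show Nat.Prime 5 by norm_num) h5
  have h50 : (5 : F) = 0 := by
    have := FiniteField.cast_card_eq_zero F
    rw [h5] at this; exact_mod_cast this
  have h2ne : (2 : F) ≠ 0 := fun h => one_ne_zero (show (1 : F) = 0 by linear_combination h50 - 2 * h)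
  set d : Fˣ := Units.mk0 2 h2ne with hd
  have hdv : (d : F) = 2 := rfl
  have hn : (ell d) ^ 6 = dg d d := by
    apply Units.ext
    rw [(ell_pow d).2.2]
    ext i j
    fin_cases i <;> fin_cases j <;> simp [dg, hdv] <;> grind
  have hpow : ∀ k ∈ ([1, 2, 3] : List ℕ), d ^ k ≠ 1 := by
    intro k hk e
    have e' : (2 : F) ^ k = 1 := by rw [← hdv, ← Units.val_pow_eq_pow_val, e, Units.val_one]
    simp only [List.mem_cons, List.not_mem_nil, or_false] at hk
    rcases hk with rfl | rfl | rfl <;> exact one_ne_zero (show (1 : F) = 0 by grind)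
  have hp : Pick (ell d) := by
    refine pick_ell hn ?_ (by simpa using hpow 1 (by simp)) (Or.inl (hpow 2 (by simp)))
      (fun e => absurd e (hpow 3 (by simp)))
    rw [hdv]; intro e; exact one_ne_zero (show (1 : F) = 0 by grind)
  refine finish p (small_pow hn) (by rw [h5]; norm_num) (done_target hp (by rw [detG_ell])
    (fun L hL hdet => ?_) (two_units (by omega)) ?_)
  · have p1 : Pair (ell d) (1 : F) 2 := Or.inl ⟨(trG_ell d).symm, by rw [detG_ell, hdv]⟩
    have p2 : Pair (ell d) (3 : F) 3 := Or.inr (by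
      rw [trG_ell, detG_ell, hdv]
      constructor <;> (field_simp; linear_combination h50))
    rw [hdv, show (2 : F) ^ 2 = 4 by norm_num] at hdet
    obtain ⟨T, hT⟩ := e.surjective (trG L)
    rcases z5_dec T with ⟨x, z, h⟩ | ⟨x, z, h⟩ <;> have h' := congrArg e h <;>
      simp only [map_add, map_sub, map_mul, map_pow, map_ofNat, map_one, map_zero, hT] at h'
    · exact hp.cov p1 p1 (prod2_of_point hL (x := e x) (z := e z) (by rw [hdet]; norm_num) h2ne
        (by rw [hdet]; exact h'))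
    · exact hp.cov p2 p2 (prod2_of_point hL (x := e x) (z := e z)
        (by rw [hdet]; linear_combination (-1 : F) * h50) (fun h => by grind)
        (by rw [hdet]; exact h'))
  · intro b
    have h4 : ∀ z : Fˣ, z ^ 4 = 1 := fun z => by
      have h := pow_card_eq_one (x := z); rwa [Fintype.card_units, h5] at h
    have hne : ∀ z : Fˣ, z ^ 2 ≠ (d ^ 3)⁻¹ := fun z hz => hpow 2 (by simp) (by
      have h := congrArg (· ^ 2) hz
      simp only [← pow_mul, inv_pow] at h
      rw [h4 z, eq_comm, inv_eq_one] at h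
      calc d ^ 2 = d ^ 2 * d ^ 4 := by rw [h4, mul_one]
        _ = 1 := by rw [← pow_add]; exact h)
    by_cases h1 : b ^ 2 = 1
    · refine ⟨d, ?_, hne d⟩
      rw [h1]; exact (hpow 3 (by simp)).symm
    · exact ⟨1, by rwa [one_pow], hne 1⟩

/-- a semisimple class whose square covers the non identity elements -/
theorem exists_class (p : ℕ) [Fact p.Prime] [CharP F p] (h : 3 ≤ Fintype.card F) :
    ∃ x : chevG2.group F, ¬ p ∣ orderOf x ∧
      ∀ g : chevG2.group F, g ≠ 1 → ∃ u v : chevG2.group F, g = (u * x * u⁻¹) * (v * x * v⁻¹) := by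
  by_cases h7 : 7 ≤ Fintype.card F
  · exact cover_large p h7
  by_cases h4 : Fintype.card F = 4
  · exact cover_four p h4
  by_cases h3 : Fintype.card F = 3
  · exact cover_three p h3
  by_cases h5 : Fintype.card F = 5
  · exact cover_five p h5
  exfalso
  obtain ⟨n, hn, hcard⟩ := FiniteField.card F p
  have h6 : Fintype.card F = 6 := by omega
  rw [h6] at hcard
  have h2 : p = 2 := ((Nat.prime_dvd_prime_iff_eq Nat.prime_two hn).1
    (Nat.prime_two.dvd_of_dvd_pow (show 2 ∣ p ^ (n : ℕ) by rw [← hcard]; norm_num))).symm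
  have h3' : p = 3 := ((Nat.prime_dvd_prime_iff_eq Nat.prime_three hn).1
    (Nat.prime_three.dvd_of_dvd_pow (show 3 ∣ p ^ (n : ℕ) by rw [← hcard]; norm_num))).symm
  omega

end CfsgLib.ThompsonG2
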